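import Groth.Agent.H12Pic.Gen.Quad
import Groth.Agent.H22Alg.GGDescent
import Groth.Agent.H25Euler.Mult
import Groth.Agent.H10Coh.AffinePush

/-!
# Intersection numbers under cutting, and nefness of generated modules
-/

set_option autoImplicit false
set_option linter.style.haveILetI false
set_option linter.unusedSectionVars false
set_option backward.isDefEq.respectTransparency.types false
universe u

open CategoryTheory CategoryTheory.Limits AlgebraicGeometry TopologicalSpace Opposite
open Groth.Agent.H11Ample Groth.Agent.H22Alg Groth.Agent.H22Alg.CMField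

noncomputable section

namespace Groth.Agent.H12Pic.Gen

variable (k : Type u) [Field k] {X : Scheme.{u}} [X.Over (Spec (CommRingCat.of k))]
  [IsProper (X ↘ Spec (CommRingCat.of k))]

/-- Intersection numbers of a direct image along a closed immersion. -/
theorem D_push {Z : Scheme.{u}} [Z.Over (Spec (CommRingCat.of k))] [IsProper (Z ↘ Spec (CommRingCat.of k))]
    (i : Z ⟶ X) [IsClosedImmersion i] (hi : i ≫ (X ↘ Spec (CommRingCat.of k)) = Z ↘ Spec (CommRingCat.of k)) :
    ∀ (l : List X.Modules), (∀ A ∈ l, PicF.IsInvertible A) → ∀ G : Z.Modules, Coh.IsCoh G →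
      H28Int.D k l ((Coh.push i).obj G) = H28Int.D k (l.map (Scheme.Modules.pullback i).obj) G
  | [], _, G, hG => by
    haveI : G.IsQuasicoherent := hG.1
    exact H28Int.Push.euler_push k i hi G
  | A :: l, hl, G, hG => by
    haveI := H28Int.isNoetherian k (X := X)
    haveI := H28Int.isNoetherian k (X := Z)
    have hl' : ∀ B ∈ l, PicF.IsInvertible B := fun B hB => hl B (List.mem_cons_of_mem _ hB)
    have hA := hl A List.mem_cons_self
    have hPA := isInvertible_pullback i hA
    obtain ⟨e⟩ := H10Coh.Tw.nonempty_push_tensor_iso i G hA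
    show H28Int.D k l _ - H28Int.D k l _ = H28Int.D k _ G - H28Int.D k _ _
    rw [D_push i hi l hl' G hG, (H28Int.isAddFn_D k l hl').congr (H10Coh.Tw.commIso _ _ ≪≫ e ≪≫
      (Coh.push i).mapIso (H10Coh.Tw.commIso _ _)), D_push i hi l hl' _]
    exact H10Coh.isCoh_of_iso (H10Coh.Tw.commIso _ _) (H11Ample.isCoh_tensor hG hPA)

/-- A globally generated invertible module is nef. -/
theorem nef_of_gg {H L : X.Modules} (hH : CohB1.IsAmple H) (hL : PicF.IsInvertible L)
    (hgg : Curv2.IsGloballyGenerated L) : Kleiman.Nef k L := by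
  intro Z i _ _ hd
  letI : Z.Over (Spec (CommRingCat.of k)) := ⟨i ≫ (X ↘ Spec (CommRingCat.of k))⟩
  haveI : IsProper (Z ↘ Spec (CommRingCat.of k)) := inferInstanceAs (IsProper (i ≫ _))
  have hl : ∀ A ∈ [L], PicF.IsInvertible A := List.forall_mem_singleton.2 hL
  rw [← NefQ.Q_quotMod_ker k i rfl hl hd]
  have hM := isInvertible_pullback i hL
  have hnz : ¬ IsZero ((Scheme.Modules.pullback i).obj L) := fun h0 => by
    obtain ⟨N, hN, ⟨eN⟩⟩ := H11Sym.exists_inverse hM
    have hO : IsZero (Coh.structureModule Z) :=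
      (NumTriv.isZero_tensor h0 N).of_iso ((H10Coh.Tw.commIso _ _ ≪≫ eN).symm)
    have h1 : (1 : Γ(Z, ⊤)) = 0 :=
      congr($(congrArg (fun φ => Scheme.Modules.Hom.app φ ⊤) ((IsZero.iff_id_eq_zero _).1 hO)) (1 : Γ(Z, ⊤)))
    exact one_ne_zero h1
  haveI := H25Euler.nontrivial_of_globallyGenerated hnz (GGDescent.isGloballyGenerated_pullback i hgg)
  obtain ⟨g, hg⟩ := exists_ne (0 : Γ((Scheme.Modules.pullback i).obj L, ⊤))
  exact Hodge.Q_nonneg_of_section k (H11Ample.isAmple_pullback_of_isAffineHom i hH) hM hg (r := 0) hd.le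

end Groth.Agent.H12Pic.Gen
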