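import Groth.Agent.H06Red.Fields
import Groth.Agent.H06EGA14.UnibranchLifting
import Mathlib.RingTheory.Localization.FractionRing
import Mathlib.RingTheory.MvPolynomial.Basic
import Mathlib.RingTheory.AlgebraicIndependent.Basic

/-!
# The generic linear combination of functions: the algebra

Over the field of rational functions in the variables `t_j`, the function `Σ f_j t_j` with some `f_l = 1`
cuts a domain `A` in a prime whose contraction to `A` is zero, or in nothing.
-/

set_option autoImplicit false
set_option linter.style.haveILetI false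
set_option linter.unusedSectionVars false
universe u

open scoped TensorProduct

noncomputable section

namespace Groth.Agent.H12Pic.Gen

variable (k : Type u) [Field k] (ι : Type)

/-- The field of rational functions in the variables indexed by `ι`. -/
abbrev KM : Type u := FractionRing (MvPolynomial ι k)

/-- The variables. -/
def tM (j : ι) : KM k ι := algebraMap (MvPolynomial ι k) (KM k ι) (MvPolynomial.X j)

theorem aeval_tM (p : MvPolynomial ι k) :
    MvPolynomial.aeval (tM k ι) p = algebraMap (MvPolynomial ι k) (KM k ι) p := by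
  have h : MvPolynomial.aeval (tM k ι) = IsScalarTower.toAlgHom k (MvPolynomial ι k) (KM k ι) := by
    refine MvPolynomial.algHom_ext fun j => ?_
    simp [tM]
  rw [h]
  rfl

theorem algebraicIndependent_tM : AlgebraicIndependent k (tM k ι) := by
  rw [algebraicIndependent_iff_injective_aeval]
  intro p q h
  rw [aeval_tM, aeval_tM] at h
  exact IsFractionRing.injective (MvPolynomial ι k) (KM k ι) h

/-- A domain stays a domain after the purely transcendental extension. -/
theorem isDomain_tensor (A : Type u) [CommRing A] [Algebra k A] [IsDomain A] :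
    IsDomain (A ⊗[k] KM k ι) := by
  let F := FractionRing A
  let x : ULift.{u} ι → KM k ι := fun j => tM k ι j.down
  have htop : IntermediateField.adjoin k (Set.range x) = ⊤ := by
    refine eq_top_iff.2 fun y _ => ?_
    obtain ⟨a, b, -, rfl⟩ := IsFractionRing.div_surjective (MvPolynomial ι k) y
    rw [← aeval_tM, ← aeval_tM]
    have hmem : ∀ p : MvPolynomial ι k, MvPolynomial.aeval (tM k ι) p ∈ IntermediateField.adjoin k (Set.range x) := by
      intro p
      have h1 : MvPolynomial.aeval (tM k ι) p ∈ Algebra.adjoin k (Set.range (tM k ι)) := by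
        rw [Algebra.adjoin_range_eq_range_aeval]
        exact ⟨p, rfl⟩
      refine (IntermediateField.algebra_adjoin_le_adjoin k (Set.range x)) ?_
      rwa [show Set.range x = Set.range (tM k ι) from (ULift.down_surjective).range_comp (tM k ι)]
    exact div_mem (hmem a) (hmem b)
  haveI : IsDomain (KM k ι ⊗[k] F) := H06Red.isDomain_tensor_purelyTranscendental F (KM k ι) x
    ((algebraicIndependent_tM k ι).comp ULift.down ULift.down_injective) htop
  haveI : IsDomain (F ⊗[k] KM k ι) := (Algebra.TensorProduct.comm k F (KM k ι)).toMulEquiv.isDomain _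
  have hinj : Function.Injective (Algebra.TensorProduct.map (IsScalarTower.toAlgHom k A F) (AlgHom.id k (KM k ι))) :=
    Module.Flat.rTensor_preserves_injective_linearMap (M := KM k ι) (IsScalarTower.toAlgHom k A F).toLinearMap
      (IsFractionRing.injective A F)
  exact hinj.isDomain (Algebra.TensorProduct.map (IsScalarTower.toAlgHom k A F) (AlgHom.id k (KM k ι))).toRingHom

variable {ι} [Fintype ι]

/-- The generic combination. -/
def comb {A : Type u} [CommRing A] [Algebra k A] (f : ι → A) : A ⊗[k] KM k ι := ∑ j, f j ⊗ₜ[k] tM k ι j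

theorem comb_ne_zero {A : Type u} [CommRing A] [Algebra k A] [Nontrivial A] {f : ι → A} {l : ι} (hl : f l = 1) :
    comb k f ≠ 0 := by
  intro h
  obtain ⟨φ, hφ⟩ := LinearMap.exists_leftInverse_of_injective (Algebra.linearMap k A)
    (LinearMap.ker_eq_bot.2 (algebraMap k A).injective)
  have h1 : φ 1 = 1 := by simpa using congrArg (fun g => g (1 : k)) hφ
  have h2 := congrArg ((TensorProduct.lid k (KM k ι)).toLinearMap ∘ₗ LinearMap.rTensor (KM k ι) φ) h
  simp only [comb, map_sum, map_zero, LinearMap.comp_apply, LinearMap.rTensor_tmul, LinearEquiv.coe_coe,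
    TensorProduct.lid_tmul] at h2
  have h3 := Fintype.linearIndependent_iff.1 (algebraicIndependent_tM k ι).linearIndependent _ h2 l
  rw [hl, h1] at h3
  exact one_ne_zero h3

open MvPolynomial in
/-- The quotient by the generic combination is a localisation of a polynomial ring over `A`. -/
theorem exists_model {A : Type u} [CommRing A] [Algebra k A] {f : ι → A} {l : ι} (hl : f l = 1) :
    ∃ (M : Submonoid (MvPolynomial {j // j ≠ l} A)) (Φ : A ⊗[k] KM k ι →ₐ[k] Localization M),
      Function.Surjective Φ ∧ RingHom.ker Φ = Ideal.span {comb k f} ∧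
      ∀ a : A, Φ (a ⊗ₜ[k] (1 : KM k ι)) = algebraMap (MvPolynomial {j // j ≠ l} A) (Localization M) (C a) := by
  classical
  set J := Ideal.span {comb k f}
  let B := MvPolynomial {j // j ≠ l} A
  let sub : ι → B := fun j => if h : j = l then -∑ i : {j // j ≠ l}, C (f i) * MvPolynomial.X i else MvPolynomial.X ⟨j, h⟩
  let ev : MvPolynomial ι k →ₐ[k] B := aeval sub
  have hsum : ∑ j, C (f j) * sub j = 0 := by
    rw [Fintype.sum_eq_add_sum_subtype_ne _ l, hl, map_one, one_mul]
    have h2 : ∀ i : {j // j ≠ l}, sub i = MvPolynomial.X i := fun i => dif_neg i.2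
    have h3 : sub l = -∑ i : {j // j ≠ l}, C (f i) * MvPolynomial.X i := dif_pos rfl
    simp only [h2, h3]
    exact neg_add_cancel _
  let M : Submonoid B := Submonoid.map ev.toRingHom.toMonoidHom (nonZeroDivisors (MvPolynomial ι k))
  let L := Localization M
  let gB : B →ₐ[k] L := IsScalarTower.toAlgHom k B L
  let gA : A →ₐ[k] L := gB.comp (IsScalarTower.toAlgHom k A B)
  have hu : ∀ y : nonZeroDivisors (MvPolynomial ι k), IsUnit ((gB.comp ev) y) := fun y =>
    IsLocalization.map_units L (⟨ev y.1, ⟨y.1, y.2, rfl⟩⟩ : M)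
  let gK : KM k ι →ₐ[k] L :=
    IsLocalization.liftAlgHom (M := nonZeroDivisors (MvPolynomial ι k)) (f := gB.comp ev) hu
  have hgK : ∀ p, gK (algebraMap (MvPolynomial ι k) (KM k ι) p) = gB (ev p) := fun p => by
    rw [IsLocalization.liftAlgHom_apply, IsLocalization.lift_eq]
    rfl
  let Φ : A ⊗[k] KM k ι →ₐ[k] L := Algebra.TensorProduct.lift gA gK fun _ _ => mul_comm _ _
  have hΦ : Φ (comb k f) = 0 := by
    rw [comb, map_sum]
    refine Eq.trans (Finset.sum_congr rfl fun j _ => ?_) ((map_sum gB _ _).symm.trans ((congrArg gB hsum).trans (map_zero _)))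
    rw [Algebra.TensorProduct.lift_tmul, tM, hgK, aeval_X, map_mul]
    rfl
  have hle : J ≤ RingHom.ker Φ := (Ideal.span_singleton_le_iff_mem _).2 (RingHom.mem_ker.2 hΦ)
  let mk : A ⊗[k] KM k ι →ₐ[k] (A ⊗[k] KM k ι) ⧸ J := Ideal.Quotient.mkₐ k J
  let hA : A →ₐ[k] (A ⊗[k] KM k ι) ⧸ J := mk.comp Algebra.TensorProduct.includeLeft
  let hK : KM k ι →ₐ[k] (A ⊗[k] KM k ι) ⧸ J := mk.comp Algebra.TensorProduct.includeRight
  let hB : B →ₐ[k] (A ⊗[k] KM k ι) ⧸ J := aevalTower hA fun j => hK (tM k ι j.1)
  have hBC : ∀ a, hB (C a) = hA a := fun a => aevalTower_C _ _ a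
  have hev : hB.comp ev = hK.comp (IsScalarTower.toAlgHom k (MvPolynomial ι k) (KM k ι)) := by
    refine algHom_ext fun j => ?_
    show hB (ev (MvPolynomial.X j)) = hK (tM k ι j)
    rw [aeval_X]
    by_cases h : j = l
    · subst h
      rw [show sub j = -∑ i : {i // i ≠ j}, C (f i) * MvPolynomial.X i from dif_pos rfl, map_neg, map_sum,
        eq_comm, ← sub_eq_zero, sub_neg_eq_add]
      have h0 : mk (comb k f) = 0 := Ideal.Quotient.eq_zero_iff_mem.2 (Ideal.mem_span_singleton_self _)
      rw [comb, map_sum, Fintype.sum_eq_add_sum_subtype_ne _ j, hl] at h0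
      refine Eq.trans (congrArg₂ (· + ·) rfl (Finset.sum_congr rfl fun i _ => ?_)) h0
      rw [map_mul, hBC]
      show hA (f i) * hB (MvPolynomial.X i) = _
      rw [aevalTower_X]
      show mk (f i ⊗ₜ 1) * mk (1 ⊗ₜ tM k ι i.1) = _
      rw [← map_mul, Algebra.TensorProduct.tmul_mul_tmul, mul_one, one_mul]
    · rw [show sub j = MvPolynomial.X ⟨j, h⟩ from dif_neg h]
      exact aevalTower_X _ _ _
  have hu' : ∀ y : M, IsUnit (hB y) := by
    rintro ⟨_, y, hy, rfl⟩
    show IsUnit ((hB.comp ev) y)
    rw [hev]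
    exact ((IsLocalization.map_units (KM k ι) (⟨y, hy⟩ : nonZeroDivisors (MvPolynomial ι k))).map hK)
  let Ψ : L →ₐ[k] (A ⊗[k] KM k ι) ⧸ J :=
    IsLocalization.liftAlgHom (A := k) (R := B) (M := M) (S := L) (P := (A ⊗[k] KM k ι) ⧸ J) (f := hB) hu'
  have hΨ : ∀ b, Ψ (gB b) = hB b := fun b => by
    show Ψ (algebraMap B L b) = _
    rw [IsLocalization.liftAlgHom_apply, IsLocalization.lift_eq]
    rfl
  have hcomp : Ψ.comp Φ = mk := by
    refine Algebra.TensorProduct.ext (AlgHom.ext fun a => ?_) ?_
    · show Ψ (Φ (a ⊗ₜ 1)) = mk (a ⊗ₜ 1)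
      rw [Algebra.TensorProduct.lift_tmul, map_one, mul_one]
      exact (hΨ (C a)).trans (hBC a)
    · refine IsLocalization.algHom_ext (nonZeroDivisors (MvPolynomial ι k)) (AlgHom.ext fun p => ?_)
      show Ψ (Φ (1 ⊗ₜ algebraMap (MvPolynomial ι k) (KM k ι) p)) = hK (algebraMap _ _ p)
      rw [Algebra.TensorProduct.lift_tmul, map_one, one_mul, hgK, hΨ]
      exact DFunLike.congr_fun hev p
  have heq : RingHom.ker Φ = J := le_antisymm (fun z hz => by
    rw [← Ideal.Quotient.eq_zero_iff_mem]
    show mk z = 0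
    rw [← hcomp]
    show Ψ (Φ z) = 0
    rw [RingHom.mem_ker.1 hz, map_zero]) hle
  refine ⟨M, Φ, ?_, heq, fun a => ?_⟩
  swap
  · rw [Algebra.TensorProduct.lift_tmul, map_one, mul_one]
    rfl
  let Φb : (A ⊗[k] KM k ι) ⧸ J →ₐ[k] L := Ideal.Quotient.liftₐ J Φ fun z hz => hle hz
  have hb : (Φb.comp Ψ) = AlgHom.id k L := by
    refine IsLocalization.algHom_ext M (AlgHom.ext fun b => ?_)
    show Φb (Ψ (gB b)) = gB b
    rw [hΨ]
    refine RingHom.congr_fun (MvPolynomial.ringHom_ext (f := Φb.toRingHom.comp hB.toRingHom) (g := gB.toRingHom)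
      (fun a => ?_) (fun i => ?_)) b
    · show Φb (hB (C a)) = gB (C a)
      rw [hBC]
      show Φ (a ⊗ₜ 1) = _
      rw [Algebra.TensorProduct.lift_tmul, map_one, mul_one]
      rfl
    · show Φb (hB (MvPolynomial.X i)) = gB (MvPolynomial.X i)
      rw [aevalTower_X]
      show Φ (1 ⊗ₜ tM k ι i.1) = _
      rw [Algebra.TensorProduct.lift_tmul, map_one, one_mul, tM, hgK, aeval_X]
      exact congrArg gB (dif_neg i.2)
  intro y
  obtain ⟨w, hw⟩ := Ideal.Quotient.mk_surjective (Ψ y)
  refine ⟨w, ?_⟩
  calc Φ w = Φb (Ψ y) := by rw [← hw]; rfl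
    _ = y := DFunLike.congr_fun hb y

/-- The generic combination spans the unit ideal, or a prime meeting `A` in zero. -/
theorem span_comb {A : Type u} [CommRing A] [Algebra k A] [IsDomain A] {f : ι → A} {l : ι} (hl : f l = 1) :
    Ideal.span {comb k f} = ⊤ ∨ ((Ideal.span {comb k f}).IsPrime ∧
      ∀ a : A, a ⊗ₜ[k] (1 : KM k ι) ∈ Ideal.span {comb k f} → a = 0) := by
  obtain ⟨M, Φ, -, heq, hC⟩ := exists_model k hl
  by_cases h0 : (0 : MvPolynomial {j // j ≠ l} A) ∈ M
  · left
    haveI : Subsingleton (Localization M) := (IsLocalization.subsingleton_iff (M := M) (S := Localization M)).2 h0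
    rw [← heq]
    exact eq_top_iff.2 fun z _ => RingHom.mem_ker.2 (Subsingleton.elim _ _)
  · right
    have hM0 := le_nonZeroDivisors_of_noZeroDivisors h0
    haveI : IsDomain (Localization M) := IsLocalization.isDomain_localization hM0
    refine ⟨heq ▸ RingHom.ker_isPrime Φ, fun a ha => ?_⟩
    rw [← heq, RingHom.mem_ker, hC] at ha
    exact MvPolynomial.C_injective _ _ (((IsLocalization.injective (Localization M) hM0)
      (ha.trans (map_zero _).symm)).trans (map_zero _).symm)

/-- The quotient by the generic combination of an integrally closed domain is integrally closed. -/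
theorem isIntegrallyClosed_quot {A : Type u} [CommRing A] [Algebra k A] [IsDomain A] [IsIntegrallyClosed A]
    {f : ι → A} {l : ι} (hl : f l = 1) (hne : Ideal.span {comb k f} ≠ ⊤) :
    IsIntegrallyClosed ((A ⊗[k] KM k ι) ⧸ Ideal.span {comb k f}) := by
  classical
  obtain ⟨M, Φ, hsur, heq, -⟩ := exists_model k hl
  have h0 : (0 : MvPolynomial {j // j ≠ l} A) ∉ M := fun h0 => hne (by
    haveI : Subsingleton (Localization M) := (IsLocalization.subsingleton_iff (M := M) (S := Localization M)).2 h0
    rw [← heq]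
    exact eq_top_iff.2 fun z _ => RingHom.mem_ker.2 (Subsingleton.elim _ _))
  let e₀ : ULift.{u} {j // j ≠ l} ≃ {j // j ≠ l} := Equiv.ulift
  haveI := H06EGA14.isIntegrallyClosed_mvPolynomial A (ULift.{u} {j // j ≠ l})
  haveI : IsIntegrallyClosed (MvPolynomial {j // j ≠ l} A) :=
    IsIntegrallyClosed.of_equiv (MvPolynomial.renameEquiv A e₀).toRingEquiv
  haveI : IsIntegrallyClosed (Localization M) :=
    isIntegrallyClosed_of_isLocalization _ M (le_nonZeroDivisors_of_noZeroDivisors h0)
  exact IsIntegrallyClosed.of_equiv (((Ideal.quotEquivOfEq heq.symm).trans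
    (RingHom.quotientKerEquivOfSurjective (f := Φ.toRingHom) hsur))).symm

end Groth.Agent.H12Pic.Gen
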