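import Groth.Agent.H12Pic.Gen.Alg
import Groth.Agent.H11Ample.Pullback
import Groth.Agent.H11Cone.DirectImageNormal
import Groth.Agent.H12Pic.NefBC

/-!
# The affine charts over a field of rational functions in several variables
-/

set_option autoImplicit false
set_option linter.style.haveILetI false
set_option linter.unusedSectionVars false
universe u

open CategoryTheory CategoryTheory.Limits AlgebraicGeometry TopologicalSpace Opposite
open Groth.Agent.H11Ample Groth.Agent.H11Tilde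
open scoped TensorProduct

noncomputable section

namespace Groth.Agent.H12Pic.Gen

variable (k : Type u) [Field k] (ι : Type) (X : Scheme.{u}) [X.Over (Spec (CommRingCat.of k))]
  [IsProper (X ↘ Spec (CommRingCat.of k))]

/-- The base of the generic member. -/
abbrev baseM : Spec (CommRingCat.of (KM k ι)) ⟶ Spec (CommRingCat.of k) :=
  Spec.map (CommRingCat.ofHom (algebraMap k (KM k ι)))

/-- The scheme over the field of rational functions. -/
abbrev XM : Scheme.{u} := pullback (X ↘ Spec (CommRingCat.of k)) (baseM k ι)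

instance overXM : (XM k ι X).Over (Spec (CommRingCat.of (KM k ι))) := ⟨pullback.snd _ _⟩

instance isProperXM : IsProper (XM k ι X ↘ Spec (CommRingCat.of (KM k ι))) :=
  inferInstanceAs (IsProper (pullback.snd _ _))

/-- The projection. -/
abbrev qM : XM k ι X ⟶ X := pullback.fst _ _

theorem sq : IsPullback (qM k ι X) (XM k ι X ↘ Spec (CommRingCat.of (KM k ι))) (X ↘ Spec (CommRingCat.of k))
    (baseM k ι) :=
  IsPullback.of_hasPullback _ _

instance isAffineHom_qM : IsAffineHom (qM k ι X) :=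
  MorphismProperty.of_isPullback (sq k ι X).flip (inferInstanceAs (IsAffineHom (baseM k ι)))

/-- The variables, as functions. -/
def tG (j : ι) : Γ(XM k ι X, ⊤) :=
  (pullback.snd (X ↘ Spec (CommRingCat.of k)) (baseM k ι)).appTop
    ((Scheme.ΓSpecIso (CommRingCat.of (KM k ι))).inv (tM k ι j))

/-- The coordinate ring of an affine chart. -/
theorem exists_chart {U : X.Opens} (hU : IsAffineOpen U) :
    ∃ (_ : Algebra k Γ(X, U)) (e : Γ(XM k ι X, qM k ι X ⁻¹ᵁ U) ≃+* (Γ(X, U) ⊗[k] KM k ι)),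
      (∀ f : Γ(X, U), e ((qM k ι X).app U f) = f ⊗ₜ[k] (1 : KM k ι)) ∧
      ∀ j, e ((XM k ι X).presheaf.map (homOfLE (le_top : qM k ι X ⁻¹ᵁ U ≤ ⊤)).op (tG k ι X j)) =
        (1 : Γ(X, U)) ⊗ₜ[k] tM k ι j := by
  obtain ⟨α, hα⟩ : ∃ α : CommRingCat.of k ⟶ Γ(X, U), Spec.map α = hU.fromSpec ≫ (X ↘ Spec (CommRingCat.of k)) :=
    ⟨_, Spec.map_preimage _⟩
  letI := α.hom.toAlgebra
  refine ⟨inferInstance, ?_⟩
  let R := Γ(X, U) ⊗[k] KM k ι
  let sA : Spec Γ(X, U) ⟶ Spec (CommRingCat.of k) := Spec.map (CommRingCat.ofHom (algebraMap k Γ(X, U)))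
  have e₁ : sA ≫ 𝟙 _ = hU.fromSpec ≫ (X ↘ Spec (CommRingCat.of k)) := by
    rw [Category.comp_id]; exact hα
  let μ := pullback.map sA (baseM k ι) (X ↘ Spec (CommRingCat.of k)) (baseM k ι) hU.fromSpec (𝟙 _) (𝟙 _) e₁ (by simp)
  let j : Spec (CommRingCat.of R) ⟶ XM k ι X := (pullbackSpecIso k Γ(X, U) (KM k ι)).inv ≫ μ
  haveI : IsOpenImmersion μ := inferInstance
  have hr : Set.range j = (qM k ι X ⁻¹ᵁ U : Set (XM k ι X)) := by
    rw [show (j : _ → _) = μ ∘ (pullbackSpecIso k Γ(X, U) (KM k ι)).inv by ext x; rfl,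
      Set.range_comp, Set.range_eq_univ.2 ((pullbackSpecIso k Γ(X, U) (KM k ι)).inv.surjective), Set.image_univ,
      Scheme.Pullback.range_map, hU.range_fromSpec]
    rw [Set.range_eq_univ.2 (fun y => ⟨y, rfl⟩ : Function.Surjective (𝟙 (Spec (CommRingCat.of (KM k ι))) : _ ⟶ _)),
      Set.preimage_univ, Set.inter_univ]
    rfl
  have hjq : j ≫ qM k ι X = Spec.map (CommRingCat.ofHom (Algebra.TensorProduct.includeLeftRingHom :
      Γ(X, U) →+* R)) ≫ hU.fromSpec := by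
    simp only [j, μ, qM, pullback.map, Category.assoc, pullback.lift_fst]
    exact (pullbackSpecIso_inv_fst_assoc k Γ(X, U) (KM k ι) hU.fromSpec)
  have hjs : j ≫ pullback.snd (X ↘ Spec (CommRingCat.of k)) (baseM k ι) = Spec.map (CommRingCat.ofHom
      ((Algebra.TensorProduct.includeRight : KM k ι →ₐ[k] R).toRingHom)) := by
    simp only [j, μ, pullback.map, Category.assoc, pullback.lift_snd, Category.comp_id]
    exact pullbackSpecIso_inv_snd k Γ(X, U) (KM k ι)
  have htop : (⊤ : (Spec (CommRingCat.of R)).Opens) ≤ j ⁻¹ᵁ (qM k ι X ⁻¹ᵁ U) := fun x _ => hr.le ⟨x, rfl⟩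
  let ρ := j.appLE (qM k ι X ⁻¹ᵁ U) ⊤ htop
  haveI := Scheme.Hom.isIso_app j (qM k ι X ⁻¹ᵁ U) (fun z hz => hr.ge hz)
  haveI : IsIso ρ := by
    simp only [ρ, Scheme.Hom.appLE]
    rw [show (homOfLE htop : (⊤ : (Spec (CommRingCat.of R)).Opens) ⟶ _) = eqToHom (le_antisymm htop le_top) from
      Subsingleton.elim _ _]
    infer_instance
  have hq : (qM k ι X).app U ≫ ρ = CommRingCat.ofHom (Algebra.TensorProduct.includeLeftRingHom :
      Γ(X, U) →+* R) ≫ (Scheme.ΓSpecIso (CommRingCat.of R)).inv := by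
    simp only [ρ]
    rw [Scheme.Hom.app_eq_appLE, Scheme.Hom.appLE_comp_appLE]
    have h0 : ∀ {g g' : Spec (CommRingCat.of R) ⟶ X}, g = g' → ∀ (h : ⊤ ≤ g ⁻¹ᵁ U) (h' : ⊤ ≤ g' ⁻¹ᵁ U),
        g.appLE U ⊤ h = g'.appLE U ⊤ h' := by rintro g g' rfl h h'; rfl
    rw [h0 hjq _ (by intro x _; exact hU.opensRange_fromSpec.le ⟨_, rfl⟩)]
    rw [← Scheme.Hom.appLE_comp_appLE _ _ U (hU.fromSpec ⁻¹ᵁ U) ⊤ le_rfl (fun x _ => hU.opensRange_fromSpec.le ⟨_, rfl⟩),
      Scheme.Hom.appLE_eq_app, hU.fromSpec_app_self, Category.assoc, Scheme.Hom.map_appLE,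
      Scheme.ΓSpecIso_inv_naturality]
    congr 1
  have ht : (XM k ι X).presheaf.map (homOfLE (le_top : qM k ι X ⁻¹ᵁ U ≤ ⊤)).op ≫ ρ = j.appTop := by
    simp [ρ, Scheme.Hom.appTop, Scheme.Hom.app_eq_appLE]
  refine ⟨(asIso ρ ≪≫ Scheme.ΓSpecIso (CommRingCat.of R)).commRingCatIsoToRingEquiv, fun f => ?_, fun i => ?_⟩
  · show (Scheme.ΓSpecIso (CommRingCat.of R)).hom (ρ ((qM k ι X).app U f)) = _
    have h1 := congrArg (fun g => g f) hq
    simp only [CommRingCat.comp_apply] at h1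
    rw [h1]
    exact congr($((Scheme.ΓSpecIso (CommRingCat.of R)).inv_hom_id) (f ⊗ₜ[k] (1 : KM k ι)))
  · show (Scheme.ΓSpecIso (CommRingCat.of R)).hom (ρ _) = _
    have h2 := congrArg (fun g => g (tG k ι X i)) ht
    simp only [CommRingCat.comp_apply] at h2
    have h3 : j.appTop (tG k ι X i) = (Scheme.ΓSpecIso (CommRingCat.of R)).inv ((1 : Γ(X, U)) ⊗ₜ[k] tM k ι i) := by
      show (j.appTop ((pullback.snd (X ↘ Spec (CommRingCat.of k)) (baseM k ι)).appTop _)) = _
      rw [← CommRingCat.comp_apply (f := (pullback.snd (X ↘ Spec (CommRingCat.of k)) (baseM k ι)).appTop),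
        ← Scheme.Hom.comp_appTop, hjs, ← CommRingCat.comp_apply, ← Scheme.ΓSpecIso_inv_naturality]
      rfl
    rw [h2, h3]
    exact congr($((Scheme.ΓSpecIso (CommRingCat.of R)).inv_hom_id) ((1 : Γ(X, U)) ⊗ₜ[k] tM k ι i))

theorem isDomain_chart [IsIntegral X] {U : X.Opens} (hU : IsAffineOpen U) (hne : (U : Set X).Nonempty) :
    IsDomain Γ(XM k ι X, qM k ι X ⁻¹ᵁ U) := by
  obtain ⟨hA, e, -, -⟩ := exists_chart k ι X hU
  haveI : Nonempty U := hne.to_subtype
  haveI := isDomain_tensor k ι Γ(X, U)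
  exact e.toMulEquiv.isDomain _

instance isIntegralXM [IsIntegral X] : IsIntegral (XM k ι X) := by
  refine H11Cone.isIntegral_of_domains (qM k ι X) (fun U U' hU hU' => ?_)
    fun y => ⟨⊤, trivial, fun U hU _ hne => isDomain_chart k ι X hU hne⟩
  exact nonempty_preirreducible_inter U.2 U'.2 hU hU'

end Groth.Agent.H12Pic.Gen
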