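import Groth.Agent.H12Pic.Gen.Cut
import Groth.Agent.H12Pic.Hodge.SurfFam

/-!
# Euler characteristics of twists, and sections in negative degree
-/

set_option autoImplicit false
set_option linter.style.haveILetI false
set_option linter.unusedSectionVars false
set_option backward.isDefEq.respectTransparency.types false
universe u

open CategoryTheory CategoryTheory.Limits AlgebraicGeometry TopologicalSpace Opposite
open Groth.Agent.H11Ample Groth.Agent.H22Alg Groth.Agent.H22Alg.CMField
open Groth.Agent.H25Theta (pb pT pC pI tI)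

noncomputable section

namespace Groth.Agent.H12Pic.Gen

variable (k : Type u) [Field k] {X : Scheme.{u}} [X.Over (Spec (CommRingCat.of k))]
  [IsProper (X ↘ Spec (CommRingCat.of k))]

/-- The Euler characteristic of a twist. -/
abbrev chi (O : ℤ → X.Modules) (F : X.Modules) (j : ℤ) : ℤ := Curv2.euler k X (CohB1.tensorMod F (O j))

/-- The self-intersection of the twisting class in a dimension two. -/
abbrev dd (O : ℤ → X.Modules) : ℤ := H28Int.D k [O 1, O 1] (Coh.structureModule X)

variable {O : ℤ → X.Modules} {n : ℕ} {v : ℕ → Γ(O 1, ⊤)}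

theorem chi_structure (j : ℤ) : chi k O (Coh.structureModule X) j = Curv2.euler k X (O j) :=
  H25Euler.euler_congr (H10Coh.Tw.leftUnitIso _)

theorem chi_congr {F G : X.Modules} (e : F ≅ G) (j : ℤ) : chi k O F j = chi k O G j :=
  H25Euler.euler_congr (PicGrp.tensorModIso e (Iso.refl _))

theorem chi_twist (h : Emb O n v) (F : X.Modules) (a j : ℤ) :
    chi k O (CohB1.tensorMod F (O a)) j = chi k O F (a + j) := by
  obtain ⟨e⟩ := h.setup.fam.add a j
  exact H25Euler.euler_congr (H10Coh.Tw.assoc _ _ _ ≪≫ PicGrp.tensorModIso (Iso.refl F) e)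

theorem dd_pos [IsIntegral X] (h : Emb O n v) (hd : topologicalKrullDim X = ((2 : ℕ) : WithBot ℕ∞)) :
    0 < dd k O := by
  have := Nakai.top_pos k h.ample.1 (Nakai.pos_of_isAmple k h.ample) (d := 2) two_pos hd
  simpa using this

/-- The Euler characteristic of the twists of an invertible module on a surface is quadratic. -/
theorem chi_diff (h : Emb O n v) (hd : topologicalKrullDim X ≤ ((2 : ℕ) : WithBot ℕ∞)) {F : X.Modules}
    (hF : PicF.IsInvertible F) (j : ℤ) :
    chi k O F (j + 1) - 2 * chi k O F j + chi k O F (j - 1) = dd k O := by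
  haveI := H28Int.isNoetherian k (X := X)
  have hO : Coh.IsCoh (Coh.structureModule X) := H10Coh.isCoh_structureModule' X
  have hM : PicF.IsInvertible (CohB1.tensorMod F (O (j - 1))) := H11Ample.isInvertible_tensor hF (h.setup.fam.inv _)
  have hl : ∀ A ∈ [O 1, O 1], PicF.IsInvertible A := by simp [h.setup.fam.inv 1]
  have h1 := H28Int.D_twist k hl hM hO ((Topology.IsInducing.subtypeVal.topologicalKrullDim_le).trans hd)
  have e0 : Curv2.euler k X (CohB1.tensorMod (CohB1.tensorMod F (O (j - 1))) (Coh.structureModule X)) =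
      chi k O F (j - 1) :=
    H25Euler.euler_congr (H10Coh.Tw.rightUnitIso _)
  have e1 : Curv2.euler k X (CohB1.tensorMod (O 1) (CohB1.tensorMod (CohB1.tensorMod F (O (j - 1)))
      (Coh.structureModule X))) = chi k O F j := by
    have := chi_twist k h F (j - 1) 1
    rw [show j - 1 + 1 = j by ring] at this
    exact (H25Euler.euler_congr (PicGrp.tensorModIso (Iso.refl _) (H10Coh.Tw.rightUnitIso _) ≪≫
      H10Coh.Tw.commIso _ _)).trans this
  have e2 : Curv2.euler k X (CohB1.tensorMod (O 1) (CohB1.tensorMod (O 1) (CohB1.tensorMod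
      (CohB1.tensorMod F (O (j - 1))) (Coh.structureModule X)))) = chi k O F (j + 1) := by
    obtain ⟨e⟩ := h.setup.fam.add (j - 1) 1
    have := chi_twist k h F j 1
    rw [← this]
    exact H25Euler.euler_congr (PicGrp.tensorModIso (Iso.refl _) (PicGrp.tensorModIso (Iso.refl _)
      (H10Coh.Tw.rightUnitIso _) ≪≫ H10Coh.Tw.commIso _ _ ≪≫ H10Coh.Tw.assoc _ _ _ ≪≫
      PicGrp.tensorModIso (Iso.refl F) (e ≪≫ eqToIso (congrArg O (by ring)))) ≪≫ H10Coh.Tw.commIso _ _)
  have key : H28Int.D k [O 1, O 1] (CohB1.tensorMod (CohB1.tensorMod F (O (j - 1))) (Coh.structureModule X)) =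
      (chi k O F (j - 1) - chi k O F j) - (chi k O F j - chi k O F (j + 1)) := by
    rw [← e0, ← e1, ← e2]; rfl
  rw [key] at h1
  show _ = H28Int.D k [O 1, O 1] (Coh.structureModule X)
  linarith

/-- A module with a nonzero section on an integral curve has nonnegative degree. -/
theorem hh_zero_eq_zero [IsIntegral X] {H : X.Modules} (hH : CohB1.IsAmple H)
    (hd : topologicalKrullDim X ≤ ((1 : ℕ) : WithBot ℕ∞)) {M : X.Modules} (hM : PicF.IsInvertible M)
    (hneg : Curv2.euler k X M < Curv2.euler k X (Coh.structureModule X)) : hh k M 0 = 0 := by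
  haveI : Subsingleton (Coh.HH X M 0) := by
    refine subsingleton_of_forall_eq 0 fun x => ?_
    by_contra hx
    have hg : H29RR.sec M x ≠ 0 := fun h0 => hx ((H29RR.sec M).injective (h0.trans (map_zero _).symm))
    have h1 := Hodge.Q_nonneg_of_section k hH hM hg (r := 0) hd
    have e : Curv2.euler k X (CohB1.tensorMod M (Coh.structureModule X)) = Curv2.euler k X M :=
      H25Euler.euler_congr (H10Coh.Tw.rightUnitIso _)
    simp only [NefQ.Q, List.replicate_zero, List.length_cons, List.length_nil, H28Int.D, e] at h1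
    norm_num at h1
    linarith
  exact Module.finrank_zero_of_subsingleton

/-- A module with a nonzero section on an integral surface has nonnegative degree. -/
theorem hh_zero_eq_zero_two [IsIntegral X] {H : X.Modules} (hH : CohB1.IsAmple H)
    (hd : topologicalKrullDim X ≤ ((2 : ℕ) : WithBot ℕ∞)) {M : X.Modules} (hM : PicF.IsInvertible M)
    (hneg : Curv2.euler k X (Coh.structureModule X) - Curv2.euler k X H - Curv2.euler k X M +
      Curv2.euler k X (CohB1.tensorMod M H) < 0) : hh k M 0 = 0 := by
  haveI : Subsingleton (Coh.HH X M 0) := by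
    refine subsingleton_of_forall_eq 0 fun x => ?_
    by_contra hx
    have hg : H29RR.sec M x ≠ 0 := fun h0 => hx ((H29RR.sec M).injective (h0.trans (map_zero _).symm))
    have h1 := Hodge.Q_nonneg_of_section k hH hM hg (r := 1) hd
    have e : Curv2.euler k X (CohB1.tensorMod M (Coh.structureModule X)) = Curv2.euler k X M :=
      H25Euler.euler_congr (H10Coh.Tw.rightUnitIso _)
    have e' : Curv2.euler k X (CohB1.tensorMod H (Coh.structureModule X)) = Curv2.euler k X H :=
      H25Euler.euler_congr (H10Coh.Tw.rightUnitIso _)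
    have e'' : Curv2.euler k X (CohB1.tensorMod H (CohB1.tensorMod M (Coh.structureModule X))) =
        Curv2.euler k X (CohB1.tensorMod M H) :=
      H25Euler.euler_congr (PicGrp.tensorModIso (Iso.refl _) (H10Coh.Tw.rightUnitIso _) ≪≫ H10Coh.Tw.commIso _ _)
    simp only [NefQ.Q, List.replicate_one, List.length_cons, List.length_nil, H28Int.D, e, e', e''] at h1
    norm_num at h1
    linarith
  exact Module.finrank_zero_of_subsingleton

end Groth.Agent.H12Pic.Gen
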