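import Groth.Agent.H12Pic.Gen.Les
import Groth.Agent.H28Int.FieldExt
import Groth.Agent.H22Alg.IntPullback

/-!
# Cutting with the generic member, cohomologically
-/

set_option autoImplicit false
set_option linter.style.haveILetI false
set_option linter.unusedSectionVars false
set_option backward.isDefEq.respectTransparency.types false
universe u

open CategoryTheory CategoryTheory.Limits AlgebraicGeometry TopologicalSpace Opposite
open Groth.Agent.H11Ample Groth.Agent.H22Alg Groth.Agent.H22Alg.CMField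
open Groth.Agent.H25Theta (pb pT pC pI tI)

noncomputable section

namespace Groth.Agent.H12Pic.Gen

variable (k : Type u) [Field k] {X : Scheme.{u}} [X.Over (Spec (CommRingCat.of k))]
  [IsProper (X ↘ Spec (CommRingCat.of k))]

/-- The twist family on the scheme of the generic member. -/
abbrev OY (O : ℤ → X.Modules) (n : ℕ) (a : ℤ) : (XM k (Idx n) X).Modules :=
  (Scheme.Modules.pullback (qM k (Idx n) X)).obj (O a)

/-- The base change of a module. -/
abbrev FY (n : ℕ) (F : X.Modules) : (XM k (Idx n) X).Modules :=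
  (Scheme.Modules.pullback (qM k (Idx n) X)).obj F

variable {O : ℤ → X.Modules} {n : ℕ}

theorem hh_bc {F : X.Modules} (hF : Coh.IsCoh F) (j : ℤ) (hj : PicF.IsInvertible (O j)) (p : ℕ) :
    hh (KM k (Idx n)) (CohB1.tensorMod (FY k n F) (OY k O n j)) p = hh k (CohB1.tensorMod F (O j)) p := by
  haveI := H28Int.isNoetherian k (X := X)
  rw [← hh_congr (pT (qM k (Idx n) X) F (O j)) p]
  exact H28Int.FieldExt.finrank_HH_bc (KM k (Idx n)) (sq k (Idx n) X) (H11Ample.isCoh_tensor hF hj) p

theorem euler_bc {F : X.Modules} (hF : Coh.IsCoh F) (j : ℤ) (hj : PicF.IsInvertible (O j)) :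
    Curv2.euler (KM k (Idx n)) (XM k (Idx n) X) (CohB1.tensorMod (FY k n F) (OY k O n j)) =
      Curv2.euler k X (CohB1.tensorMod F (O j)) :=
  finsum_congr fun p => by
    rw [show (Module.finrank (KM k (Idx n)) _ : ℕ) = hh k (CohB1.tensorMod F (O j)) p from hh_bc k hF j hj p]

/-- Above the dimension the cohomology vanishes. -/
theorem hh_high {d : ℕ} (hd : topologicalKrullDim X ≤ (d : WithBot ℕ∞)) {M : X.Modules} (hM : Coh.IsQCoh M)
    {p : ℕ} (hp : d < p) : hh k M p = 0 := by
  haveI := H28Int.isNoetherian k (X := X)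
  haveI : X.IsSeparated := Scheme.IsSeparated.mk (by
    rw [← terminal.comp_from (X ↘ Spec (CommRingCat.of k))]; infer_instance)
  haveI : Subsingleton (Coh.HH X M p) := van_iff.1 (H28Int.subsingleton_HnM_of_support (X := X) ⊤ d
    ((Topology.IsInducing.subtypeVal.topologicalKrullDim_le).trans hd) M hM (fun _ _ => trivial) p hp)
  exact Module.finrank_zero_of_subsingleton

theorem euler_two (hd : topologicalKrullDim X ≤ ((2 : ℕ) : WithBot ℕ∞)) {M : X.Modules} (hM : Coh.IsQCoh M) :
    Curv2.euler k X M = (hh k M 0 : ℤ) - hh k M 1 + hh k M 2 := by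
  rw [show Curv2.euler k X M = ∑ p ∈ Finset.range 3, (-1 : ℤ) ^ p * (hh k M p : ℤ) from
    finsum_eq_sum_of_support_subset _ fun p hp => ?_]
  · rw [Finset.sum_range_succ, Finset.sum_range_succ, Finset.sum_range_one]; ring
  · rw [Finset.coe_range, Set.mem_Iio]
    by_contra hle
    exact hp (by simp [show Module.finrank k (Coh.HH X M p) = 0 from hh_high k hd hM (by omega)])

/-- An integral scheme cut out by the generic member, with its exact sequences. -/
theorem exists_cut [IsIntegral X] {v : ℕ → Γ(O 1, ⊤)} (h : Emb O n v) {r : ℕ}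
    (hd : topologicalKrullDim X = ((r + 1 : ℕ) : WithBot ℕ∞)) :
    ∃ (Z : Scheme.{u}) (_ : Z.Over (Spec (CommRingCat.of (KM k (Idx n)))))
      (_ : IsProper (Z ↘ Spec (CommRingCat.of (KM k (Idx n))))) (_ : IsIntegral Z)
      (i : Z ⟶ XM k (Idx n) X) (_ : IsClosedImmersion i) (w : ℕ → Γ((Scheme.Modules.pullback i).obj (OY k O n 1), ⊤)),
      i ≫ (XM k (Idx n) X ↘ Spec (CommRingCat.of (KM k (Idx n)))) = Z ↘ Spec (CommRingCat.of (KM k (Idx n))) ∧
      topologicalKrullDim Z = (r : WithBot ℕ∞) ∧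
      Emb (fun a => (Scheme.Modules.pullback i).obj (OY k O n a)) n w ∧
      (Pi1.IsNormalScheme X → Pi1.IsNormalScheme Z) ∧
      ∀ F : X.Modules, PicF.IsInvertible F → ∃ (φ : CohB1.tensorMod (FY k n F) (OY k O n (-1)) ⟶ FY k n F) (_ : Mono φ),
        Coh.IsCoh (cokernel φ) ∧
        (∀ j p, hh (KM k (Idx n)) (CohB1.tensorMod (cokernel φ) (OY k O n j)) p =
          hh (KM k (Idx n)) (CohB1.tensorMod ((Scheme.Modules.pullback i).obj (FY k n F))
            ((Scheme.Modules.pullback i).obj (OY k O n j))) p) ∧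
        (∀ j, Curv2.euler (KM k (Idx n)) (XM k (Idx n) X) (CohB1.tensorMod (cokernel φ) (OY k O n j)) =
          Curv2.euler (KM k (Idx n)) Z (CohB1.tensorMod ((Scheme.Modules.pullback i).obj (FY k n F))
            ((Scheme.Modules.pullback i).obj (OY k O n j)))) ∧
        Nonempty (cokernel φ ≅ (Coh.push i).obj ((Scheme.Modules.pullback i).obj (FY k n F))) := by
  obtain ⟨I, hI, hdim, ⟨e⟩, -, hnorm⟩ := exists_member k h hd
  letI : I.subscheme.Over (Spec (CommRingCat.of (KM k (Idx n)))) :=
    ⟨I.subschemeι ≫ (XM k (Idx n) X ↘ Spec (CommRingCat.of (KM k (Idx n))))⟩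
  haveI : IsProper (I.subscheme ↘ Spec (CommRingCat.of (KM k (Idx n)))) :=
    inferInstanceAs (IsProper (I.subschemeι ≫ _))
  refine ⟨I.subscheme, inferInstance, inferInstance, hI, I.subschemeι, inferInstance, _, rfl, hdim,
    (h.pullback (qM k (Idx n) X)).pullback I.subschemeι, hnorm, fun F hF => ?_⟩
  have hFY : PicF.IsInvertible (FY k n F) := isInvertible_pullback _ hF
  obtain ⟨φ, hφ, ⟨ec⟩⟩ := exists_seq I e (FY k n F) hFY
  haveI := H28Int.isNoetherian (KM k (Idx n)) (X := XM k (Idx n) X)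
  have hc : ∀ j, ∃ _ : CohB1.tensorMod (cokernel φ) (OY k O n j) ≅ (Coh.push I.subschemeι).obj
      (CohB1.tensorMod ((Scheme.Modules.pullback I.subschemeι).obj (FY k n F))
        ((Scheme.Modules.pullback I.subschemeι).obj (OY k O n j))), True := fun j => by
    obtain ⟨p⟩ := H10Coh.Tw.nonempty_push_tensor_iso I.subschemeι
      ((Scheme.Modules.pullback I.subschemeι).obj (FY k n F))
      (isInvertible_pullback (qM k (Idx n) X) (h.setup.fam.inv j))
    exact ⟨PicGrp.tensorModIso ec (Iso.refl _) ≪≫ p, trivial⟩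
  have hq : ∀ j, (CohB1.tensorMod ((Scheme.Modules.pullback I.subschemeι).obj (FY k n F))
      ((Scheme.Modules.pullback I.subschemeι).obj (OY k O n j))).IsQuasicoherent := fun j =>
    (H11Ample.isCoh_of_isInvertible (isInvertible_tensor (isInvertible_pullback _ hFY)
      (isInvertible_pullback _ (isInvertible_pullback _ (h.setup.fam.inv j))))).1
  refine ⟨φ, hφ, H10Coh.isCoh_cokernel φ (H11Ample.isCoh_tensor (H11Ample.isCoh_of_isInvertible hFY)
    (isInvertible_pullback _ (h.setup.fam.inv (-1)))).1 (H11Ample.isCoh_of_isInvertible hFY),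
    fun j p => ?_, fun j => ?_, ⟨ec⟩⟩
  · obtain ⟨a, -⟩ := hc j
    haveI := hq j
    exact (hh_congr a p).trans (H28Int.Push.finrank_HH_push (KM k (Idx n)) I.subschemeι rfl _ p)
  · obtain ⟨a, -⟩ := hc j
    haveI := hq j
    exact (H25Euler.euler_congr a).trans (H28Int.Push.euler_push (KM k (Idx n)) I.subschemeι rfl _)

end Groth.Agent.H12Pic.Gen
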