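import Groth.Agent.H12Pic.Gen.Cut
import Groth.Agent.H1CAlg.Serre
import Mathlib.RingTheory.Ideal.AssociatedPrime.Basic

/-!
# A section of the cokernel of a map of invertible modules on a normal scheme lives at a nonclosed point
-/

set_option autoImplicit false
set_option linter.style.haveILetI false
set_option linter.unusedSectionVars false
set_option backward.isDefEq.respectTransparency.types false
universe u

open CategoryTheory CategoryTheory.Limits AlgebraicGeometry TopologicalSpace Opposite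
open Groth.Agent.H11Ample Groth.Agent.H11Tilde Groth.Agent.H22Alg
open scoped Pointwise

noncomputable section

namespace Groth.Agent.H12Pic.Gen

/-- A divisibility holding at all non-maximal primes of a normal local domain of dimension `≥ 2` holds. -/
theorem dvd_of_forall_prime {R : Type u} [CommRing R] [IsNoetherianRing R] [IsLocalRing R] [IsDomain R]
    [IsIntegrallyClosed R] (hdim : 2 ≤ ringKrullDim R) {c b : R} (hc : c ≠ 0)
    (h : ∀ q : Ideal R, q.IsPrime → q ≠ IsLocalRing.maximalIdeal R → ∃ s ∉ q, c ∣ s * b) : c ∣ b := by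
  by_contra hb
  have hcm : c ∈ IsLocalRing.maximalIdeal R := by
    rw [IsLocalRing.mem_maximalIdeal]
    exact fun hu => hb (hu.dvd)
  have hreg : IsSMulRegular R c := fun a d had => mul_left_cancel₀ hc had
  have hd := H1CAlg.depth_ge_two_of_isIntegrallyClosed hdim
  rw [LocCoh.depth, ← H4Depth.idealDepth_quotSMulTop_add_one hcm hreg] at hd
  have hmem : ∀ r : R, r ∈ c • (⊤ : Submodule R R) ↔ c ∣ r := fun r => by
    rw [Submodule.mem_smul_pointwise_iff_exists]
    exact ⟨fun ⟨a, _, ha⟩ => ⟨a, ha.symm⟩, fun ⟨a, ha⟩ => ⟨a, trivial, ha.symm⟩⟩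
  haveI : Nontrivial (QuotSMulTop c R) := by
    refine Submodule.Quotient.nontrivial_iff.mpr fun htop => ?_
    exact hb ((hmem b).1 (htop.ge Submodule.mem_top))
  have hb0 : (Submodule.Quotient.mk b : QuotSMulTop c R) ≠ 0 := fun h0 =>
    hb ((hmem b).1 ((Submodule.Quotient.mk_eq_zero _).1 h0))
  obtain ⟨q, hq, hle⟩ := exists_le_isAssociatedPrime_of_isNoetherianRing R _ hb0
  have hqm : q = IsLocalRing.maximalIdeal R := by
    by_contra hne
    obtain ⟨s, hs, hsb⟩ := h q hq.isPrime hne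
    refine hs (hle ?_)
    rw [Submodule.mem_colon_singleton, Submodule.mem_bot, ← Submodule.Quotient.mk_smul,
      Submodule.Quotient.mk_eq_zero, smul_eq_mul, hmem]
    exact hsb
  have h0 := (H4Depth.idealDepth_eq_zero_iff_exists_associatedPrime
    H4Depth.maximalIdeal_smul_top_ne_top).2 ⟨q, hq, hqm.ge⟩
  rw [h0, zero_add] at hd
  exact absurd hd (by norm_num)

variable {X : Scheme.{u}}

/-- A nonzero section of the cokernel is nonzero at some nonclosed point. -/
theorem exists_nonclosed_point [IsIntegral X] [IsLocallyNoetherian X] (hN : Pi1.IsNormalScheme X)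
    (hdim : ∀ x : X, IsClosed ({x} : Set X) → 2 ≤ ringKrullDim (X.presheaf.stalk x)) {G₁ G₂ : X.Modules}
    (h₁ : PicF.IsInvertible G₁) (h₂ : PicF.IsInvertible G₂) (φ : G₁ ⟶ G₂) [Mono φ]
    {τ : Γ(cokernel φ, ⊤)} (hτ : τ ≠ 0) :
    ∃ ξ : X, ¬ IsClosed ({ξ} : Set X) ∧ ∀ W : X.Opens, ξ ∈ W →
      (cokernel φ).presheaf.map (homOfLE (le_top : W ≤ ⊤)).op τ ≠ 0 := by
  by_contra hall
  push Not at hall
  have hS : (ShortComplex.mk φ (cokernel.π φ) (cokernel.condition φ)).ShortExact :=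
    ShortComplex.ShortExact.mk' (ShortComplex.exact_cokernel φ) inferInstance inferInstance
  refine hτ (H11Tilde.eq_of_locally τ 0 fun x hx => ?_)
  rcases Classical.em (IsClosed ({x} : Set X)) with hxc | hxc
  swap
  · obtain ⟨W, hxW, hW⟩ := hall x hxc
    exact ⟨W, le_top, hxW, by rw [hW, map_zero]⟩
  obtain ⟨U₁, e₁, hxU₁, he₁⟩ := exists_gen h₁ x
  obtain ⟨U₂, e₂, hxU₂, he₂⟩ := exists_gen h₂ x
  obtain ⟨W₀, hW₀, hxW₀, t, ht⟩ := H10Coh.exists_nhds_lift_of_epi (cokernel.π φ) ⊤ τ x hx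
  obtain ⟨V, hV, hxV, hle⟩ := exists_isAffineOpen_mem_and_subset (U := W₀ ⊓ (U₁ ⊓ U₂)) (x := x) ⟨hxW₀, hxU₁, hxU₂⟩
  have hVW : V ≤ W₀ := fun z hz => (hle hz).1
  have hV₁ : V ≤ U₁ := fun z hz => (hle hz).2.1
  have hV₂ : V ≤ U₂ := fun z hz => (hle hz).2.2
  let f₁ := G₁.presheaf.map (homOfLE hV₁).op e₁
  let f₂ := G₂.presheaf.map (homOfLE hV₂).op e₂
  have hf₁ : IsGen G₁ f₁ := he₁.res hV₁
  have hf₂ : IsGen G₂ f₂ := he₂.res hV₂
  obtain ⟨c, hc⟩ := exists_coeff hf₂ (φ.app V f₁)
  obtain ⟨b, hb⟩ := exists_coeff hf₂ (G₂.presheaf.map (homOfLE hVW).op t)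
  have hτV : (cokernel φ).presheaf.map (homOfLE (le_top : V ≤ ⊤)).op τ = b • (cokernel.π φ).app V f₂ := by
    rw [← Scheme.Modules.Hom.app_smul, ← hb, app_map_apply, ht, H10Coh.mres_mres]
  haveI : Nonempty V := ⟨⟨x, hxV⟩⟩
  have hc0 : c ≠ 0 := fun h0 => by
    rw [h0, zero_smul] at hc
    have h1 : f₁ = 0 := H10Coh.injective_app_of_mono' φ V (hc.trans (map_zero _).symm)
    have h2 := (hf₁.bijective (le_refl V)).1 (a₁ := (1 : Γ(X, V))) (a₂ := 0) (by simp [h1])
    exact one_ne_zero h2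
  letI : Algebra Γ(X, V) (X.presheaf.stalk x) := X.presheaf.algebra_section_stalk ⟨x, hxV⟩
  haveI : IsLocalization.AtPrime (X.presheaf.stalk x) (hV.primeIdealOf ⟨x, hxV⟩).asIdeal :=
    hV.isLocalization_stalk ⟨x, hxV⟩
  let P := (hV.primeIdealOf ⟨x, hxV⟩).asIdeal
  let R := X.presheaf.stalk x
  haveI := (hN x).1
  haveI := (hN x).2
  have hinj : Function.Injective (algebraMap Γ(X, V) R) :=
    IsLocalization.injective R P.primeCompl_le_nonZeroDivisors
  obtain ⟨a, ha⟩ := dvd_of_forall_prime (hdim x hxc) (c := algebraMap Γ(X, V) R c) (b := algebraMap Γ(X, V) R b)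
    (fun h0 => hc0 (hinj (h0.trans (map_zero _).symm))) fun q hq hqm => by
      let Q : PrimeSpectrum Γ(X, V) := ⟨q.comap (algebraMap Γ(X, V) R), inferInstance⟩
      have hQP : Q.asIdeal ≤ P := fun r hr => by
        by_contra hrP
        exact hq.ne_top (Ideal.eq_top_of_isUnit_mem _ hr (IsLocalization.map_units R (⟨r, hrP⟩ : P.primeCompl)))
      have hQne : Q.asIdeal ≠ P := fun heq => hqm (by
        rw [← IsLocalization.map_under P.primeCompl R q, ← IsLocalization.AtPrime.map_eq_maximalIdeal P R]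
        exact congrArg (Ideal.map _) heq)
      let y := hV.fromSpec Q
      have hyV : y ∈ V := by
        have : y ∈ Set.range hV.fromSpec := ⟨Q, rfl⟩
        rwa [hV.range_fromSpec] at this
      have hspec : y ⤳ x := by
        have h1 := ((PrimeSpectrum.le_iff_specializes Q (hV.primeIdealOf ⟨x, hxV⟩)).1 hQP).map hV.fromSpec.continuous
        have h2 : hV.fromSpec (hV.primeIdealOf ⟨x, hxV⟩) = x := hV.fromSpec_primeIdealOf ⟨x, hxV⟩
        exact h2 ▸ h1
      have hyx : y ≠ x := fun heq => hQne (by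
        have h1 : Q = hV.primeIdealOf ⟨x, hxV⟩ :=
          hV.fromSpec.isOpenEmbedding.injective (heq.trans (hV.fromSpec_primeIdealOf ⟨x, hxV⟩).symm)
        rw [h1])
      have hync : ¬ IsClosed ({y} : Set X) := fun hcl => hyx
        (Set.mem_singleton_iff.1 (hspec.mem_closed hcl rfl)).symm
      obtain ⟨W, hyW, hW⟩ := hall y hync
      have h0 : (cokernel.π φ).app (W ⊓ V) (G₂.presheaf.map (homOfLE (inf_le_right : W ⊓ V ≤ V)).op (b • f₂)) = 0 := by
        rw [app_map_apply, Scheme.Modules.Hom.app_smul, ← hτV, H10Coh.mres_mres,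
          ← H10Coh.mres_mres _ (le_top : W ≤ ⊤) (inf_le_left : W ⊓ V ≤ W), hW, map_zero]
      obtain ⟨g, hg⟩ := H10Coh.exists_app_eq_of_exact hS (W ⊓ V) _ h0
      obtain ⟨a', ha'⟩ := exists_coeff (hf₁.res (inf_le_right : W ⊓ V ≤ V)) g
      rw [ha', Scheme.Modules.Hom.app_smul, app_map_apply, hc, Scheme.Modules.map_smul, Scheme.Modules.map_smul,
        smul_smul] at hg
      have h2 : a' * X.presheaf.map (homOfLE (inf_le_right : W ⊓ V ≤ V)).op c =
          X.presheaf.map (homOfLE (inf_le_right : W ⊓ V ≤ V)).op b := by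
        refine ((hf₂.res (inf_le_right : W ⊓ V ≤ V)).bijective le_rfl).1 ?_
        beta_reduce
        rw [H10Coh.mres_self]
        exact hg
      letI : Algebra Γ(X, V) (X.presheaf.stalk y) := X.presheaf.algebra_section_stalk ⟨y, hyV⟩
      haveI : IsLocalization.AtPrime (X.presheaf.stalk y) (hV.primeIdealOf ⟨y, hyV⟩).asIdeal :=
        hV.isLocalization_stalk ⟨y, hyV⟩
      have hQy : hV.primeIdealOf ⟨y, hyV⟩ = Q :=
        hV.fromSpec.isOpenEmbedding.injective (hV.fromSpec_primeIdealOf ⟨y, hyV⟩)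
      have h3 := congrArg (X.presheaf.germ (W ⊓ V) y ⟨hyW, hyV⟩) h2
      rw [map_mul, TopCat.Presheaf.germ_res_apply, TopCat.Presheaf.germ_res_apply] at h3
      obtain ⟨⟨n, s⟩, hns⟩ := IsLocalization.surj (hV.primeIdealOf ⟨y, hyV⟩).asIdeal.primeCompl
        (X.presheaf.germ (W ⊓ V) y ⟨hyW, hyV⟩ a')
      have h4 : algebraMap Γ(X, V) (X.presheaf.stalk y) (n * c) =
          algebraMap Γ(X, V) (X.presheaf.stalk y) ((s : Γ(X, V)) * b) := by
        rw [map_mul, map_mul, ← hns]
        show _ * X.presheaf.germ V y hyV c = X.presheaf.germ V y hyV s * X.presheaf.germ V y hyV b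
        rw [← h3]
        show _ * X.presheaf.germ V y hyV s * _ = _
        ring
      obtain ⟨u, hu⟩ := (IsLocalization.eq_iff_exists (hV.primeIdealOf ⟨y, hyV⟩).asIdeal.primeCompl _).1 h4
      refine ⟨algebraMap Γ(X, V) R ((u : Γ(X, V)) * s), fun hmem => ?_, algebraMap Γ(X, V) R (u * n), ?_⟩
      · have h5 : ((u * s : (hV.primeIdealOf ⟨y, hyV⟩).asIdeal.primeCompl) : Γ(X, V)) ∉ Q.asIdeal := by
          rw [← hQy]
          exact (u * s).2
        exact h5 hmem
      · rw [← map_mul, ← map_mul]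
        congr 1
        linear_combination -hu
  obtain ⟨⟨n, s⟩, hns⟩ := IsLocalization.surj P.primeCompl a
  have h4 : algebraMap Γ(X, V) R ((s : Γ(X, V)) * b) = algebraMap Γ(X, V) R (c * n) := by
    rw [map_mul, map_mul, ← hns, ha]
    ring
  have h5 := hinj h4
  refine ⟨X.basicOpen (s : Γ(X, V)), le_top, ?_, ?_⟩
  · rw [Scheme.mem_basicOpen X _ x hxV]
    exact IsLocalization.map_units R s
  · rw [map_zero]
    have hsle : X.basicOpen (s : Γ(X, V)) ≤ V := X.basicOpen_le _
    have hu : IsUnit (X.presheaf.map (homOfLE hsle).op (s : Γ(X, V))) :=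
      X.toRingedSpace.isUnit_res_basicOpen (s : Γ(X, V))
    have h6 : (s : Γ(X, V)) • (cokernel φ).presheaf.map (homOfLE (le_top : V ≤ ⊤)).op τ = 0 := by
      rw [hτV, smul_smul, h5, mul_comm, mul_smul, ← Scheme.Modules.Hom.app_smul, ← hc,
        show (cokernel.π φ).app V (φ.app V f₁) = 0 from
          congr($(congrArg (fun ψ => Scheme.Modules.Hom.app ψ V) (cokernel.condition φ)) f₁), smul_zero]
    have h7 := congrArg ((cokernel φ).presheaf.map (homOfLE hsle).op) h6
    rw [Scheme.Modules.map_smul, H10Coh.mres_mres, map_zero] at h7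
    exact hu.smul_eq_zero.1 h7

end Groth.Agent.H12Pic.Gen
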