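import Groth.Agent.H12Pic.Gen.Seq

/-!
# Inequalities from the long cohomology sequence
-/

set_option autoImplicit false
set_option linter.style.haveILetI false
set_option linter.unusedSectionVars false
set_option backward.isDefEq.respectTransparency.types false
universe u

open CategoryTheory CategoryTheory.Limits AlgebraicGeometry TopologicalSpace Opposite
attribute [local instance 10000] Groth.Agent.H10Coh.hasSheafifyAb Groth.Agent.H10Coh.hasWeakSheafifyAb Groth.Agent.H10Coh.hasExtAb Groth.Agent.H10Coh.enoughInjAb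

noncomputable section

namespace Groth.Agent.H12Pic.Gen

variable {k : Type u} [Field k] {X : Scheme.{u}} [X.Over (Spec (CommRingCat.of k))]
  [IsProper (X ↘ Spec (CommRingCat.of k))]

theorem finrank_le_add_of_exact {A B C : Type*} [AddCommGroup A] [AddCommGroup B] [AddCommGroup C]
    [Module k A] [Module k B] [Module k C] [FiniteDimensional k A] [FiniteDimensional k B] [FiniteDimensional k C]
    (f : A →ₗ[k] B) (g : B →ₗ[k] C) (h : ∀ x, g x = 0 → ∃ y, f y = x) :
    Module.finrank k B ≤ Module.finrank k A + Module.finrank k C := by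
  have h1 := LinearMap.finrank_range_add_finrank_ker g
  have h2 : LinearMap.ker g ≤ LinearMap.range f := fun x hx => h x hx
  have h3 := Submodule.finrank_mono h2
  have h4 := LinearMap.finrank_range_le f
  have h5 := Submodule.finrank_le (LinearMap.range g)
  omega

omit X in
theorem first_le_space {T : TopCat.{u}} {k : Type u} [Field k] {S : ShortComplex (CohTop.Ab T)}
    (σ : H10Coh.ActSeq k S) (hS : S.ShortExact) (U : Opens T)
    (h₁ : ∀ n, σ.a₁.Fin n U) (h₂ : ∀ n, σ.a₂.Fin n U) (h₃ : ∀ n, σ.a₃.Fin n U) (p : ℕ) :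
    letI := fun n => σ.a₁.mod n U
    letI := fun n => σ.a₂.mod n U
    letI := fun n => σ.a₃.mod n U
    Module.finrank k (H10Coh.Hn S.X₁ (p + 1) U) ≤
      Module.finrank k (H10Coh.Hn S.X₃ p U) + Module.finrank k (H10Coh.Hn S.X₂ (p + 1) U) := by
  letI := fun n => σ.a₁.mod n U
  letI := fun n => σ.a₂.mod n U
  letI := fun n => σ.a₃.mod n U
  haveI : ∀ n, FiniteDimensional k (H10Coh.Hn S.X₁ n U) := h₁
  haveI : ∀ n, FiniteDimensional k (H10Coh.Hn S.X₂ n U) := h₂
  haveI : ∀ n, FiniteDimensional k (H10Coh.Hn S.X₃ n U) := h₃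
  exact finrank_le_add_of_exact (σ.delta hS p U) (H10Coh.ActSh.map σ.comm₁₂ (p + 1) U)
    fun x hx => Abelian.Ext.covariant_sequence_exact₁ _ hS x hx rfl

omit X in
theorem third_le_space {T : TopCat.{u}} {k : Type u} [Field k] {S : ShortComplex (CohTop.Ab T)}
    (σ : H10Coh.ActSeq k S) (hS : S.ShortExact) (U : Opens T)
    (h₁ : ∀ n, σ.a₁.Fin n U) (h₂ : ∀ n, σ.a₂.Fin n U) (h₃ : ∀ n, σ.a₃.Fin n U) (p : ℕ) :
    letI := fun n => σ.a₁.mod n U
    letI := fun n => σ.a₂.mod n U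
    letI := fun n => σ.a₃.mod n U
    Module.finrank k (H10Coh.Hn S.X₃ p U) ≤
      Module.finrank k (H10Coh.Hn S.X₂ p U) + Module.finrank k (H10Coh.Hn S.X₁ (p + 1) U) := by
  letI := fun n => σ.a₁.mod n U
  letI := fun n => σ.a₂.mod n U
  letI := fun n => σ.a₃.mod n U
  haveI : ∀ n, FiniteDimensional k (H10Coh.Hn S.X₁ n U) := h₁
  haveI : ∀ n, FiniteDimensional k (H10Coh.Hn S.X₂ n U) := h₂
  haveI : ∀ n, FiniteDimensional k (H10Coh.Hn S.X₃ n U) := h₃
  exact finrank_le_add_of_exact (H10Coh.ActSh.map σ.comm₂₃ p U) (σ.delta hS p U)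
    fun x hx => Abelian.Ext.covariant_sequence_exact₃ _ hS x rfl hx

theorem hh_mid_le {S : ShortComplex X.Modules} (hS : S.ShortExact) (h₁ : Coh.IsCoh S.X₁) (h₂ : Coh.IsCoh S.X₂)
    (h₃ : Coh.IsCoh S.X₃) (p : ℕ) : hh k S.X₂ p ≤ hh k S.X₁ p + hh k S.X₃ p := by
  haveI := H28Int.isNoetherian k (X := X)
  haveI := H10Coh.finite_HH_proper k X _ h₁ p
  haveI := H10Coh.finite_HH_proper k X _ h₂ p
  haveI := H10Coh.finite_HH_proper k X _ h₃ p
  exact finrank_le_add_of_exact (Canon.HHlin k S.f p) (Canon.HHlin k S.g p) fun x hx =>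
    Abelian.Ext.covariant_sequence_exact₂ _ (H10Coh.shortExact_sh hS) x hx

theorem hh_first_le {S : ShortComplex X.Modules} (hS : S.ShortExact) (h₁ : Coh.IsCoh S.X₁) (h₂ : Coh.IsCoh S.X₂)
    (h₃ : Coh.IsCoh S.X₃) (p : ℕ) : hh k S.X₁ (p + 1) ≤ hh k S.X₃ p + hh k S.X₂ (p + 1) := by
  haveI := H28Int.isNoetherian k (X := X)
  simp only [hh, H25Euler.finrank_HH]
  have hf : ∀ (M : X.Modules), Coh.IsCoh M → ∀ n, H10Coh.FinH (H10Coh.globA (A := k) (X := X)) M n ⊤ :=
    fun M hM n => (H10Coh.finite_HH_iff_finH M n).1 (H10Coh.finite_HH_proper k X M hM n)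
  exact first_le_space (H10Coh.actSeq (H10Coh.globA (A := k)) S) (H10Coh.shortExact_sh hS) ⊤
    (hf _ h₁) (hf _ h₂) (hf _ h₃) p

theorem hh_third_le {S : ShortComplex X.Modules} (hS : S.ShortExact) (h₁ : Coh.IsCoh S.X₁) (h₂ : Coh.IsCoh S.X₂)
    (h₃ : Coh.IsCoh S.X₃) (p : ℕ) : hh k S.X₃ p ≤ hh k S.X₂ p + hh k S.X₁ (p + 1) := by
  haveI := H28Int.isNoetherian k (X := X)
  simp only [hh, H25Euler.finrank_HH]
  have hf : ∀ (M : X.Modules), Coh.IsCoh M → ∀ n, H10Coh.FinH (H10Coh.globA (A := k) (X := X)) M n ⊤ :=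
    fun M hM n => (H10Coh.finite_HH_iff_finH M n).1 (H10Coh.finite_HH_proper k X M hM n)
  exact third_le_space (H10Coh.actSeq (H10Coh.globA (A := k)) S) (H10Coh.shortExact_sh hS) ⊤
    (hf _ h₁) (hf _ h₂) (hf _ h₃) p

end Groth.Agent.H12Pic.Gen
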