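import Groth.Agent.H12Pic.Gen.Chart
import Groth.Agent.H12Pic.Hodge.Cut
import Groth.Agent.H12Pic.PicCurve.Divisor
import Groth.Agent.H25FM.DivPow
import Groth.Agent.H22Alg.CMField
import Groth.Agent.H22Alg.Nakai
import Groth.Agent.H22Alg.VarDim
import Groth.Agent.H28Neron.NormalSmooth
import Groth.Agent.H05EGA4.NormalTensorGeom
import Groth.Agent.H06EGA17.SmoothRing

/-!
# The generic member of the linear system of the twisting sections is integral

For an integral proper scheme with an ample twist family covered by the sections `v_l`, the zero scheme of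
`Σ t_l v_l` over `k(t)` is an integral effective Cartier divisor of dimension one less.
-/

set_option autoImplicit false
set_option linter.style.haveILetI false
set_option linter.unusedSectionVars false
set_option backward.isDefEq.respectTransparency.types false
universe u

open CategoryTheory CategoryTheory.Limits AlgebraicGeometry TopologicalSpace Opposite
open Groth.Agent.H11Ample Groth.Agent.H11Tilde Groth.Agent.H22Alg
open Groth.Agent.H8Props.FieldDim (cdim)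
open Groth.Agent.H25Theta (pb pT pC pI tI)
open scoped TensorProduct

noncomputable section

namespace Groth.Agent.H12Pic.Gen

variable (k : Type u) [Field k] {X : Scheme.{u}} [X.Over (Spec (CommRingCat.of k))]
  [IsProper (X ↘ Spec (CommRingCat.of k))]

/-- An ample twist family covered by coordinate sections. -/
structure Emb (O : ℤ → X.Modules) (n : ℕ) (v : ℕ → Γ(O 1, ⊤)) : Prop where
  setup : CMField.Setup O n v
  ample : CohB1.IsAmple (O 1)

omit [IsProper (X ↘ Spec (CommRingCat.of k))] [X.Over (Spec (CommRingCat.of k))] in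
/-- Pullback along an affine morphism. -/
theorem Emb.pullback {O : ℤ → X.Modules} {n : ℕ} {v : ℕ → Γ(O 1, ⊤)} (h : Emb O n v) {Y : Scheme.{u}}
    (f : Y ⟶ X) [IsAffineHom f] :
    Emb (fun a => (Scheme.Modules.pullback f).obj (O a)) n (fun l => pullTop f (v l)) :=
  ⟨{ fam := h.setup.fam.pullback f
     cover := fun z => by
      obtain ⟨l, hl, hz⟩ := h.setup.cover (f z)
      refine ⟨l, hl, ?_⟩
      have h1 := H11Ample.gen_smul_pullSect f (h.setup.fam.inv 1) (v l) (isUnit_one (M := Γ(Y, ⊤)))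
      rw [one_smul] at h1
      exact h1.ge hz },
    H11Ample.isAmple_pullback_of_isAffineHom f h.ample⟩

/-- The variables of the generic member. -/
abbrev Idx (n : ℕ) : Type := Fin (n + 1)

variable {O : ℤ → X.Modules} {n : ℕ} {v : ℕ → Γ(O 1, ⊤)}

/-- The generic member. -/
def sec (v : ℕ → Γ(O 1, ⊤)) (n : ℕ) : Γ((Scheme.Modules.pullback (qM k (Idx n) X)).obj (O 1), ⊤) :=
  ∑ j : Idx n, tG k (Idx n) X j • pullTop (qM k (Idx n) X) (v j)

/-- The generic member is the zero scheme of a regular section, integral, of dimension one less. -/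
theorem exists_member [IsIntegral X] (h : Emb O n v) {r : ℕ}
    (hd : topologicalKrullDim X = ((r + 1 : ℕ) : WithBot ℕ∞)) :
    ∃ I : (XM k (Idx n) X).IdealSheafData, IsIntegral I.subscheme ∧
      topologicalKrullDim I.subscheme = (r : WithBot ℕ∞) ∧
      Nonempty (ClSub.idealMod I ≅ (Scheme.Modules.pullback (qM k (Idx n) X)).obj (O (-1))) ∧
      PicF.IsInvertible (ClSub.idealMod I) ∧ (Pi1.IsNormalScheme X → Pi1.IsNormalScheme I.subscheme) := by
  classical
  let K := KM k (Idx n)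
  let Y := XM k (Idx n) X
  let q := qM k (Idx n) X
  haveI := H28Int.isNoetherian K (X := Y)
  haveI := H28Int.isNoetherian k (X := X)
  let N := (Scheme.Modules.pullback q).obj (O 1)
  have hN : PicF.IsInvertible N := isInvertible_pullback q (h.setup.fam.inv 1)
  let g : Γ(N, ⊤) := sec k v n
  let σ : Coh.structureModule Y ⟶ N := homOfGlobal N g
  -- the charts
  let S := {U : X.affineOpens // (U.1 : Set X).Nonempty ∧ ∃ l : Idx n, U.1 ≤ gen (O 1) (v l)}
  have hcov : ∀ y : X, ∃ U : S, y ∈ U.1.1 := fun y => by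
    obtain ⟨l, hl, hy⟩ := h.setup.cover y
    obtain ⟨U, hU, hyU, hle⟩ := exists_isAffineOpen_mem_and_subset (U := gen (O 1) (v l)) (x := y) hy
    exact ⟨⟨⟨U, hU⟩, ⟨y, hyU⟩, ⟨l, hl⟩, hle⟩, hyU⟩
  have hchart : ∀ U : S, ∃ (c : Γ(Y, q ⁻¹ᵁ U.1.1)) (e : Γ(N, q ⁻¹ᵁ U.1.1)) (_ : IsGen N e)
      (_ : Algebra k Γ(X, U.1.1)) (E : Γ(Y, q ⁻¹ᵁ U.1.1) ≃+* (Γ(X, U.1.1) ⊗[k] K))
      (f : Idx n → Γ(X, U.1.1)) (l : Idx n),
      f l = 1 ∧ N.presheaf.map (homOfLE (le_top : q ⁻¹ᵁ U.1.1 ≤ ⊤)).op g = c • e ∧ E c = comb k f ∧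
      ∀ a : Γ(X, U.1.1), E (q.app U.1.1 a) = a ⊗ₜ[k] (1 : K) := by
    rintro ⟨⟨U, hU⟩, hne, l, hl⟩
    obtain ⟨hAlg, E, hE1, hE2⟩ := exists_chart k (Idx n) X hU
    have he : IsGen (O 1) ((O 1).presheaf.map (homOfLE (le_top : U ≤ ⊤)).op (v l)) := by
      have h1 := (isGen_gen (L := O 1) (v l)).res hl
      rwa [H10Coh.mres_mres] at h1
    choose f hf using fun j : Idx n => exists_coeff he ((O 1).presheaf.map (homOfLE (le_top : U ≤ ⊤)).op (v j))
    let f' : Idx n → Γ(X, U) := Function.update f l 1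
    have hf' : ∀ j : Idx n, (O 1).presheaf.map (homOfLE (le_top : U ≤ ⊤)).op (v j) =
        f' j • (O 1).presheaf.map (homOfLE (le_top : U ≤ ⊤)).op (v l) := fun j => by
      by_cases hj : j = l
      · subst hj
        rw [show f' j = 1 from Function.update_self ..]
        exact (one_smul _ _).symm
      · rw [show f' j = f j from Function.update_of_ne hj ..]
        exact hf j
    refine ⟨∑ j, Y.presheaf.map (homOfLE (le_top : q ⁻¹ᵁ U ≤ ⊤)).op (tG k (Idx n) X j) * q.app U (f' j),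
      _, IsGen.pullSect q he, hAlg, E, f', l, Function.update_self .., ?_, ?_, hE1⟩
    · rw [Finset.sum_smul]
      simp only [g, sec, map_sum]
      refine Finset.sum_congr rfl fun j _ => ?_
      rw [Scheme.Modules.map_smul, mul_smul]
      congr 1
      refine (pullSect_res q (O 1) (le_top : U ≤ ⊤) (v j)).symm.trans ?_
      rw [hf' j, OmegaSh.pullSect_smul]
    · rw [map_sum, comb]
      refine Finset.sum_congr rfl fun j _ => ?_
      rw [map_mul, hE1, hE2, Algebra.TensorProduct.tmul_mul_tmul, one_mul, mul_one]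
  choose c e he hAlg E f lU hl hg hEc hEa using hchart
  have hVa : ∀ U : S, IsAffineOpen (q ⁻¹ᵁ U.1.1) := fun U => U.1.2.preimage q
  have hdom : ∀ U : S, IsDomain Γ(X, U.1.1) := fun U => by
    haveI : Nonempty U.1.1 := U.2.1.to_subtype
    infer_instance
  have hc0 : ∀ U : S, c U ≠ 0 := fun U h0 => by
    haveI := hdom U
    letI := hAlg U
    exact comb_ne_zero k (hl U) ((hEc U).symm.trans ((congrArg (E U) h0).trans (map_zero _)))
  obtain ⟨U₀, -⟩ := hcov (genericPoint X)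
  have hgen0 : genericPoint Y ∈ gen N g := by
    have h1 := gen_inf_eq_basicOpen (he U₀) g (c U₀) (hg U₀)
    have hne : (Y.basicOpen (c U₀) : Set Y).Nonempty := by
      rw [Set.nonempty_iff_ne_empty, ← Opens.coe_bot, Ne, SetLike.coe_set_eq, basicOpen_eq_bot_iff]
      exact hc0 U₀
    obtain ⟨z, hz⟩ := hne
    exact (genericPoint_specializes z).mem_open (gen N g).2 ((h1.ge hz).1)
  have hσ : σ ≠ 0 := by
    intro h0
    have h1 := (mem_gen_iff hN g (genericPoint Y)).1 hgen0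
    have hg0 : g = 0 := by
      rw [← H11Ample.val_homOfGlobal g, show homOfGlobal N g = 0 from h0]
      rfl
    rw [hg0, map_zero] at h1
    exact zero_ne_one (h1.1 (a₁ := (0 : Y.presheaf.stalk (genericPoint Y))) (a₂ := 1) (by simp))
  -- the ideal
  obtain ⟨hcart, -⟩ := H25FM.DivPow.isEffCartierIdeal_zeroScheme hN σ hσ
  let I := PicCurve.zeroIdeal N σ hN
  have hI : BlowUp.IsEffCartierIdeal I := by
    obtain ⟨h1, h2⟩ := H25FM.DivPow.isEffCartierIdeal_zeroScheme hN σ hσ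
    show BlowUp.IsEffCartierIdeal (PicCurve.zeroIdeal N σ hN)
    rw [← h2]
    exact h1
  have hideal : ∀ U : S, I.ideal ⟨q ⁻¹ᵁ U.1.1, hVa U⟩ = Ideal.span {c U} := fun U => by
    refine PicCurve.zeroIdeal_ideal N σ hN (hVa U) (he U) fun y hy => ?_
    rw [← Mero.germ_smul]
    refine Eq.trans ?_ (congrArg (N.presheaf.germ (q ⁻¹ᵁ U.1.1) y hy) (hg U))
    rw [TopCat.Presheaf.germ_res_apply]
    exact congrArg (N.presheaf.germ ⊤ y trivial) (H11Ample.val_homOfGlobal g)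
  have hsupp : ∀ z : Y, z ∈ I.support ↔ z ∉ gen N g := fun z => by
    obtain ⟨U, hU⟩ := hcov (q z)
    rw [Scheme.IdealSheafData.mem_support_iff_of_mem (U := ⟨q ⁻¹ᵁ U.1.1, hVa U⟩) hU, hideal U]
    have h1 := gen_inf_eq_basicOpen (he U) g (c U) (hg U)
    rw [Scheme.zeroLocus_span, Scheme.mem_zeroLocus_iff]
    constructor
    · intro h2 h3
      exact h2 (c U) rfl (h1.le ⟨h3, hU⟩)
    · intro h2 a ha h3
      rw [Set.mem_singleton_iff.1 ha] at h3
      exact h2 (h1.ge h3).1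
  have hIinv : PicF.IsInvertible (ClSub.idealMod I) := H29Blow.isInvertible_of_isEffCartierIdeal I hI
  have hiso : Nonempty (ClSub.idealMod I ≅ (Scheme.Modules.pullback q).obj (O (-1))) := by
    obtain ⟨M, hM, ⟨eM⟩⟩ := H11Sym.exists_inverse hIinv
    obtain ⟨τ, hτ, hτr⟩ := PicCurve.exists_section_of_cartier I hI M hM (H10Coh.Tw.commIso _ _ ≪≫ eM)
    obtain ⟨eMN⟩ := PicCurve.nonempty_iso_of_zeroGerm_eq hM hN hτr (PicCurve.isRegularSection_of_cartier N σ hN hI)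
      fun y => by rw [← PicCurve.stalkIdeal_zeroIdeal M τ hM, ← PicCurve.stalkIdeal_zeroIdeal N σ hN, hτ]
    let eN : CohB1.tensorMod N (ClSub.idealMod I) ≅ Coh.structureModule Y := tI eMN.symm (Iso.refl _) ≪≫ eM
    obtain ⟨p₁⟩ := h.setup.fam.add (-1) 1
    obtain ⟨z₀⟩ := h.setup.fam.zero
    let eO : CohB1.tensorMod ((Scheme.Modules.pullback q).obj (O (-1))) N ≅ Coh.structureModule Y :=
      (pT q _ _).symm ≪≫ (Scheme.Modules.pullback q).mapIso (p₁ ≪≫ eqToIso (congrArg O (by ring)) ≪≫ z₀) ≪≫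
        H16Derived.KFlat.Stalk.structurePullbackIso q
    exact ⟨(H10Coh.Tw.leftUnitIso _).symm ≪≫ tI eO.symm (Iso.refl _) ≪≫ H10Coh.Tw.assoc _ _ _ ≪≫
      tI (Iso.refl _) eN ≪≫ H10Coh.Tw.rightUnitIso _⟩
  -- a zero exists
  obtain ⟨z₁, hz₁⟩ : ∃ z : Y, z ∉ gen N g := by
    by_contra hall
    push Not at hall
    haveI : IsIso (homOfGlobal N g) := H11Tilde.isIso_homOfGlobal N g fun V => by
      have h1 := (isGen_gen g).bijective (show V ≤ gen N g from fun z _ => hall z)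
      simp only [H10Coh.mres_mres] at h1
      exact h1
    have hNa : CohB1.IsAmple N := isAmple_pullback_of_isAffineHom q h.ample
    have hdY : topologicalKrullDim Y = ((r + 1 : ℕ) : WithBot ℕ∞) := by
      rw [H8Props.FieldDim.dim_baseChange (X ↘ Spec (CommRingCat.of k)) q _ (sq k (Idx n) X), hd]
    have hl := Nakai.inv_replicate hNa.1 r
    have hpos := Nakai.top_pos K hNa.1 (Nakai.pos_of_isAmple K hNa) (d := r + 1) (Nat.succ_pos r) hdY
    rw [List.replicate_succ] at hpos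
    have h0 : H28Int.D K (N :: List.replicate r N) (Coh.structureModule Y) = 0 := by
      show H28Int.D K (List.replicate r N) _ - H28Int.D K (List.replicate r N) _ = 0
      rw [(H28Int.isAddFn_D K _ hl).congr (PicGrp.tensorModIso (asIso (homOfGlobal N g)).symm (Iso.refl _) ≪≫
        H10Coh.Tw.leftUnitIso _), sub_self]
    rw [h0, mul_zero] at hpos
    exact lt_irrefl _ hpos
  -- integrality
  let ι := I.subschemeι
  haveI : IsAffineHom ι := inferInstance
  let p := ι ≫ q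
  have hpiece : ∀ U : S, (p ⁻¹ᵁ U.1.1 : Set I.subscheme).Nonempty →
      IsDomain Γ(I.subscheme, ι ⁻¹ᵁ (q ⁻¹ᵁ U.1.1)) ∧
      (∀ a : Γ(X, U.1.1), a ≠ 0 → ι.app (q ⁻¹ᵁ U.1.1) (q.app U.1.1 a) ≠ 0) ∧
      (Pi1.IsNormalScheme X → IsIntegrallyClosed Γ(I.subscheme, ι ⁻¹ᵁ (q ⁻¹ᵁ U.1.1))) := by
    intro U hne
    haveI := hdom U
    letI := hAlg U
    let eI := (I.subschemeObjIso ⟨q ⁻¹ᵁ U.1.1, hVa U⟩).commRingCatIsoToRingEquiv
    have hmap : (I.ideal ⟨q ⁻¹ᵁ U.1.1, hVa U⟩).map (E U).toRingHom = Ideal.span {comb k (f U)} := by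
      rw [hideal U, Ideal.map_span, Set.image_singleton]
      exact congrArg (fun x => Ideal.span {x}) (hEc U)
    have hback : I.ideal ⟨q ⁻¹ᵁ U.1.1, hVa U⟩ = (Ideal.span {comb k (f U)}).comap (E U).toRingHom :=
      (Ideal.comap_map_of_bijective (E U).toRingHom (E U).bijective).symm.trans
        (congrArg (Ideal.comap (E U).toRingHom) hmap)
    have hprime : Ideal.span {comb k (f U)} ≠ ⊤ := by
      intro htop
      have h1 : I.ideal ⟨q ⁻¹ᵁ U.1.1, hVa U⟩ = ⊤ :=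
        hback.trans ((congrArg (Ideal.comap (E U).toRingHom) htop).trans Ideal.comap_top)
      haveI : Subsingleton Γ(I.subscheme, ι ⁻¹ᵁ (q ⁻¹ᵁ U.1.1)) := by
        haveI : Subsingleton (Γ(Y, q ⁻¹ᵁ U.1.1) ⧸ I.ideal ⟨q ⁻¹ᵁ U.1.1, hVa U⟩) :=
          Ideal.Quotient.subsingleton_iff.2 h1
        exact eI.toEquiv.subsingleton
      obtain ⟨z, hz⟩ := hne
      haveI : Nonempty (ι ⁻¹ᵁ (q ⁻¹ᵁ U.1.1) : I.subscheme.Opens) := ⟨⟨z, hz⟩⟩
      have h2 : ((1 : Γ(I.subscheme, ι ⁻¹ᵁ (q ⁻¹ᵁ U.1.1)))) = 0 := Subsingleton.elim _ _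
      have h3 := congrArg (I.subscheme.presheaf.germ (ι ⁻¹ᵁ (q ⁻¹ᵁ U.1.1)) z hz).hom h2
      rw [map_one, map_zero] at h3
      exact one_ne_zero h3
    obtain ⟨hp, hcontr⟩ := (span_comb k (hl U)).resolve_left hprime
    haveI hIp : (I.ideal ⟨q ⁻¹ᵁ U.1.1, hVa U⟩).IsPrime := hback ▸ Ideal.IsPrime.comap _
    refine ⟨eI.toMulEquiv.isDomain _, fun a ha h0 => ha (hcontr a ?_), fun hN => ?_⟩
    swap
    · haveI : IsIntegrallyClosed Γ(X, U.1.1) :=
        H05EGA4.isIntegrallyClosed_of_isNormalRing (H28Neron.isNormalRing_sections hN U.1.2)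
      haveI := isIntegrallyClosed_quot k (hl U) hprime
      haveI : IsIntegrallyClosed (Γ(Y, q ⁻¹ᵁ U.1.1) ⧸ I.ideal ⟨q ⁻¹ᵁ U.1.1, hVa U⟩) :=
        IsIntegrallyClosed.of_equiv (R := (Γ(X, U.1.1) ⊗[k] K) ⧸ Ideal.span {comb k (f U)})
          (Ideal.quotientEquiv _ _ (E U) hmap.symm).symm
      exact IsIntegrallyClosed.of_equiv eI.symm
    have h1 : q.app U.1.1 a ∈ I.ideal ⟨q ⁻¹ᵁ U.1.1, hVa U⟩ := by
      rw [← I.ker_subschemeι_app ⟨q ⁻¹ᵁ U.1.1, hVa U⟩, RingHom.mem_ker]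
      exact h0
    rw [← hEa U a, ← hmap]
    exact Ideal.mem_map_of_mem _ h1
  let T := {U : S // (p ⁻¹ᵁ U.1.1 : Set I.subscheme).Nonempty}
  obtain ⟨w₁, hw₁⟩ : z₁ ∈ Set.range ι := by rw [I.range_subschemeι]; exact (hsupp z₁).2 hz₁
  have hcovT : ∀ w : I.subscheme, ∃ U : T, w ∈ p ⁻¹ᵁ U.1.1.1 := fun w => by
    obtain ⟨U, hU⟩ := hcov (p w)
    exact ⟨⟨U, ⟨w, hU⟩⟩, hU⟩
  haveI : Nonempty T := ⟨(hcovT w₁).choose⟩
  have hint : ∀ U : T, IsIntegral (p ⁻¹ᵁ U.1.1.1 : Scheme.{u}) := fun U => by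
    haveI : IsAffine (p ⁻¹ᵁ U.1.1.1 : Scheme.{u}) := (hVa U.1).preimage ι
    haveI : Nonempty (p ⁻¹ᵁ U.1.1.1 : Scheme.{u}) := U.2.to_subtype
    haveI : IsDomain Γ(I.subscheme, p ⁻¹ᵁ U.1.1.1) := (hpiece U.1 U.2).1
    haveI : IsDomain Γ((p ⁻¹ᵁ U.1.1.1 : Scheme.{u}), ⊤) :=
      (p ⁻¹ᵁ U.1.1.1).topIso.commRingCatIsoToRingEquiv.toMulEquiv.isDomain _
    exact isIntegral_of_isAffine_of_isDomain _
  haveI : IsIntegral I.subscheme := by
    refine H11Cone.isIntegral_of_cover' (fun U : T => p ⁻¹ᵁ U.1.1.1) (IsOpenCover.mk (eq_top_iff.2 fun w _ => ?_))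
      hint fun U U' => ?_
    · obtain ⟨U, hU⟩ := hcovT w
      exact Opens.mem_iSup.2 ⟨U, hU⟩
    · obtain ⟨y, hy⟩ := nonempty_preirreducible_inter U.1.1.1.2 U'.1.1.1.2 U.1.2.1 U'.1.2.1
      obtain ⟨a, hle, hya⟩ := U.1.1.2.exists_basicOpen_le (V := U'.1.1.1) ⟨y, hy.2⟩ hy.1
      have ha : a ≠ 0 := fun h0 => by
        rw [h0, Scheme.basicOpen_zero] at hya
        exact hya
      have hne := (hpiece U.1 U.2).2.1 a ha
      haveI := hint U
      haveI : Nonempty (p ⁻¹ᵁ U.1.1.1 : Scheme.{u}) := U.2.to_subtype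
      obtain ⟨w, hw⟩ : ((I.subscheme.basicOpen (ι.app (q ⁻¹ᵁ U.1.1.1) (q.app U.1.1.1 a))) : Set I.subscheme).Nonempty := by
        rw [Set.nonempty_iff_ne_empty, ← Opens.coe_bot, Ne, SetLike.coe_set_eq]
        intro hbot
        haveI := (hpiece U.1 U.2).1
        exact hne ((Scheme.isNilpotent_iff_basicOpen_eq_bot_of_isCompact ((hVa U.1).preimage ι).isCompact _).2 hbot).eq_zero
      rw [← Scheme.preimage_basicOpen, ← Scheme.preimage_basicOpen] at hw
      exact ⟨w, X.basicOpen_le a hw, hle hw⟩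
  -- the dimension
  let ξ := ι (genericPoint I.subscheme)
  have hξg : ξ ∉ gen N g := (hsupp ξ).1 (by
    show ξ ∈ (I.support : Set Y)
    rw [← I.range_subschemeι]
    exact ⟨_, rfl⟩)
  obtain ⟨w, hwξ, hwg, hwd⟩ := Hodge.exists_component_cut K hN g hgen0 (w₀ := ξ)
    ⟨(genericPoint_specializes ξ).mem_closure, hξg⟩
  have hwξ' : w = ξ := by
    obtain ⟨w', rfl⟩ : w ∈ Set.range ι := by rw [I.range_subschemeι]; exact (hsupp w).2 hwg
    exact (hwξ.antisymm ((genericPoint_specializes w').map ι.continuous)).eq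
  have hηd : cdim (genericPoint Y) = ((r + 1 : ℕ) : WithBot ℕ∞) := by
    rw [VarDim.cdim_genericPoint Y, H8Props.FieldDim.dim_baseChange (X ↘ Spec (CommRingCat.of k)) q _
      (sq k (Idx n) X), hd]
  rw [hwξ', hηd] at hwd
  refine ⟨I, inferInstance, ?_, hiso, hIinv, fun hN v => ?_⟩
  swap
  · obtain ⟨U, hvU⟩ := hcovT v
    have hW : IsAffineOpen (ι ⁻¹ᵁ (q ⁻¹ᵁ U.1.1.1)) := (hVa U.1).preimage ι
    haveI := (hpiece U.1 U.2).1
    haveI := (hpiece U.1 U.2).2.2 hN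
    letI : Algebra Γ(I.subscheme, ι ⁻¹ᵁ (q ⁻¹ᵁ U.1.1.1)) (I.subscheme.presheaf.stalk v) :=
      I.subscheme.presheaf.algebra_section_stalk ⟨v, hvU⟩
    haveI : IsLocalization.AtPrime (I.subscheme.presheaf.stalk v) (hW.primeIdealOf ⟨v, hvU⟩).asIdeal :=
      hW.isLocalization_stalk ⟨v, hvU⟩
    obtain ⟨hd', hi'⟩ := H06EGA17.isNormalRing_of_isIntegrallyClosed Γ(I.subscheme, ι ⁻¹ᵁ (q ⁻¹ᵁ U.1.1.1))
      (hW.primeIdealOf ⟨v, hvU⟩).asIdeal
    let Ev : Localization.AtPrime (hW.primeIdealOf ⟨v, hvU⟩).asIdeal ≃+* I.subscheme.presheaf.stalk v :=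
      (IsLocalization.algEquiv (hW.primeIdealOf ⟨v, hvU⟩).asIdeal.primeCompl _ _).toRingEquiv
    exact ⟨Ev.symm.toMulEquiv.isDomain, IsIntegrallyClosed.of_equiv Ev⟩
  rw [ι.isClosedEmbedding.isEmbedding.toHomeomorph.isHomeomorph.topologicalKrullDim_eq,
    LeadDev.range_eq_closure ι (ξ := ξ) rfl]
  change cdim ξ = _
  rcases hξd : cdim ξ with _ | b
  · rw [hξd] at hwd
    change _ = (⊥ : WithBot ℕ∞) + 1 at hwd
    rw [WithBot.bot_add] at hwd
    exact absurd hwd WithBot.coe_ne_bot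
  · rw [hξd] at hwd
    have hb : ((r + 1 : ℕ) : ℕ∞) = b + 1 := WithBot.coe_inj.1 hwd
    exact WithBot.coe_inj.2 (WithTop.add_right_cancel ENat.one_ne_top
      (hb.symm.trans (by push_cast; ring) : b + 1 = ((r : ℕ) : ℕ∞) + 1))

end Groth.Agent.H12Pic.Gen
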