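import Groth.Agent.H12Pic.Gen.Surf
import Groth.Agent.H12Pic.Hodge.Classes

/-!
# Closed formulas on a projective surface, and the setup of an embedded scheme
-/

set_option autoImplicit false
set_option linter.style.haveILetI false
set_option linter.unusedSectionVars false
set_option backward.isDefEq.respectTransparency.types false
universe u

open CategoryTheory CategoryTheory.Limits AlgebraicGeometry TopologicalSpace Opposite
open Groth.Agent.H11Ample Groth.Agent.H22Alg Groth.Agent.H22Alg.CMField

noncomputable section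

namespace Groth.Agent.H12Pic.Gen

variable (k : Type u) [Field k]

/-- The twist family of an embedding. -/
abbrev OP {n : ℕ} {X : Scheme.{u}} (i : X ⟶ CohB1.ProjSpace n k) (a : ℤ) : X.Modules :=
  (Scheme.Modules.pullback i).obj (Twist.twistProjSpace n k a)

/-- The coordinates of an embedding. -/
theorem emb_of_immersion {n : ℕ} {X : Scheme.{u}} (i : X ⟶ CohB1.ProjSpace n k) [IsAffineHom i] :
    Emb (OP k i) n (fun l => pullTop i (CMField.coords k n l)) :=
  Emb.pullback (X := CohB1.ProjSpace n k) ⟨CMField.setup k n, H11Ample.isAmple_twistProjSpace n k⟩ i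

variable {X : Scheme.{u}} [X.Over (Spec (CommRingCat.of k))] [IsProper (X ↘ Spec (CommRingCat.of k))]
  {O : ℤ → X.Modules} {n : ℕ} {v : ℕ → Γ(O 1, ⊤)}

/-- The Euler characteristic of the twists in closed form. -/
theorem chi_quad (h : Emb O n v) (hd : topologicalKrullDim X ≤ ((2 : ℕ) : WithBot ℕ∞)) {F : X.Modules}
    (hF : PicF.IsInvertible F) (j : ℤ) :
    2 * chi k O F j = 2 * chi k O F 0 + 2 * j * (chi k O F 0 - chi k O F (-1)) + j * (j + 1) * dd k O ∧
      chi k O F j - chi k O F (j - 1) = chi k O F 0 - chi k O F (-1) + j * dd k O := by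
  induction j using Int.induction_on with
  | zero => simp
  | succ j ih =>
    have := chi_diff k h hd hF j
    obtain ⟨h1, h2⟩ := ih
    rw [show (j : ℤ) + 1 - 1 = j by ring]
    constructor <;> linarith
  | pred j ih =>
    obtain ⟨h1, h2⟩ := ih
    have := chi_diff k h hd hF (-(j : ℤ) - 1)
    rw [show -(j : ℤ) - 1 + 1 = -j by ring] at this
    constructor <;> linarith

/-- Reading off the coefficients of the Hilbert polynomial. -/
theorem coeffs (h : Emb O n v) (hd : topologicalKrullDim X ≤ ((2 : ℕ) : WithBot ℕ∞)) {F : X.Modules}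
    (hF : PicF.IsInvertible F) (a : Fin 3 → ℤ)
    (ha : ∀ m : ℕ, FGA.eulerCharLE k X (CohB1.tensorMod F (O m)) 2 = ∑ j : Fin 3, a j * ((m + j).choose j : ℤ)) :
    a 2 = dd k O ∧ chi k O F 0 - chi k O F (-1) = a 2 + a 1 ∧ chi k O F (-1) = a 0 ∧
      chi k O F (-2) = a 0 - a 1 := by
  haveI := H28Int.isNoetherian k (X := X)
  have e : ∀ m : ℕ, chi k O F m = ∑ j : Fin 3, a j * ((m + j).choose j : ℤ) := fun m => by
    rw [← ha m, H28Int.eulerCharLE_eq k hd]
    exact (H11Ample.isCoh_of_isInvertible (isInvertible_tensor hF (h.setup.fam.inv _))).1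
  have e0 := e 0
  have e1 := e 1
  have e2 := e 2
  have h1 := (chi_quad k h hd hF 1)
  have h2 := (chi_quad k h hd hF 2)
  have h3 := (chi_quad k h hd hF (-1))
  rw [show (-1 : ℤ) - 1 = -2 by ring] at h3
  norm_num [Fin.sum_univ_three, Nat.choose] at e0 e1 e2
  refine ⟨?_, ?_, ?_, ?_⟩ <;> linarith [h1.1, h2.1, h3.2]

/-- The degree and the square of a class in Euler characteristics. -/
theorem D_two {A B : X.Modules} :
    H28Int.D k [A, B] (Coh.structureModule X) = Curv2.euler k X (Coh.structureModule X) - Curv2.euler k X B -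
      Curv2.euler k X A + Curv2.euler k X (CohB1.tensorMod A B) := by
  have eA : Curv2.euler k X (CohB1.tensorMod A (Coh.structureModule X)) = Curv2.euler k X A :=
    H25Euler.euler_congr (H10Coh.Tw.rightUnitIso _)
  have eB : Curv2.euler k X (CohB1.tensorMod B (Coh.structureModule X)) = Curv2.euler k X B :=
    H25Euler.euler_congr (H10Coh.Tw.rightUnitIso _)
  have eAB : Curv2.euler k X (CohB1.tensorMod B (CohB1.tensorMod A (Coh.structureModule X))) =
      Curv2.euler k X (CohB1.tensorMod A B) :=
    H25Euler.euler_congr (PicGrp.tensorModIso (Iso.refl _) (H10Coh.Tw.rightUnitIso _) ≪≫ H10Coh.Tw.commIso _ _)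
  simp only [H28Int.D, eA, eB, eAB]
  ring

end Groth.Agent.H12Pic.Gen
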