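import Groth.Agent.H12Pic.Gen.Depth
import Groth.Agent.H3CAlg.IntLocal
import Groth.Agent.H12Pic.NumTriv.Projective
import Mathlib.RingTheory.Algebraic.Basic

/-!
# Two twisting sections with a transcendental ratio along a positive dimensional subvariety
-/

set_option autoImplicit false
set_option linter.style.haveILetI false
set_option linter.unusedSectionVars false
set_option backward.isDefEq.respectTransparency.types false
universe u

open CategoryTheory CategoryTheory.Limits AlgebraicGeometry TopologicalSpace Opposite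
open Groth.Agent.H11Ample Groth.Agent.H11Tilde Groth.Agent.H22Alg
open Groth.Agent.H8Props.FieldDim (cdim)

noncomputable section

namespace Groth.Agent.H12Pic.Gen

variable (k : Type u) [Field k] {X : Scheme.{u}} [X.Over (Spec (CommRingCat.of k))]
  [IsProper (X ↘ Spec (CommRingCat.of k))]

/-- The scalars on an open. -/
def scalOn (V : X.Opens) : k →+* Γ(X, V) :=
  (X.presheaf.map (homOfLE (le_top : V ≤ ⊤)).op).hom.comp (H10Coh.globA (A := k) (X := X))

theorem res_scalOn {V W : X.Opens} (h : W ≤ V) (a : k) :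
    X.presheaf.map (homOfLE h).op (scalOn k V a) = scalOn k W a :=
  H10Coh.rres_rres _ _ _

theorem eval_res {V W : X.Opens} (h : W ≤ V) (p : Polynomial k) (f : Γ(X, V)) :
    X.presheaf.map (homOfLE h).op (p.eval₂ (scalOn k V) f) =
      p.eval₂ (scalOn k W) (X.presheaf.map (homOfLE h).op f) := by
  refine Polynomial.induction_on' p (fun a b ha hb => ?_) fun m a => ?_
  · rw [Polynomial.eval₂_add, Polynomial.eval₂_add, map_add, ha, hb]
  · rw [Polynomial.eval₂_monomial, Polynomial.eval₂_monomial, map_mul, map_pow, res_scalOn]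

omit [IsProper (X ↘ Spec (CommRingCat.of k))] [X.Over (Spec (CommRingCat.of k))] in
/-- Closed points of an integral scheme of dimension at least two have local rings of dimension at least two. -/
theorem two_le_ringKrullDim_stalk (f : X ⟶ Spec (CommRingCat.of k)) [LocallyOfFiniteType f] [IsIntegral X] {d : ℕ}
    (hd : topologicalKrullDim X = ((d + 2 : ℕ) : WithBot ℕ∞)) {x : X} (hx : IsClosed ({x} : Set X)) :
    2 ≤ ringKrullDim (X.presheaf.stalk x) := by
  have hc : cdim x = ((0 : ℕ) : WithBot ℕ∞) := by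
    show topologicalKrullDim (closure ({x} : Set X)) = _
    rw [hx.closure_eq]
    refine le_antisymm ?_ ?_
    · exact topologicalKrullDim_zero_of_discreteTopology _
    · haveI : Nonempty ({x} : Set X) := ⟨⟨x, rfl⟩⟩
      haveI : Nonempty (IrreducibleCloseds ({x} : Set X)) :=
        ⟨⟨closure {⟨x, rfl⟩}, isIrreducible_singleton.closure, isClosed_closure⟩⟩
      exact Order.krullDim_nonneg
  obtain ⟨e, he, hde⟩ := H3CAlg.IntLocal.ringKrullDim_stalk f hd x hc
  rw [he]
  exact_mod_cast (show 2 ≤ e by omega)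

variable {O : ℤ → X.Modules} {n : ℕ} {v : ℕ → Γ(O 1, ⊤)}

/-- Two of the sections with a transcendental ratio at a nonclosed point. -/
theorem exists_pair (h : Emb O n v) {ξ : X} (hξ : ¬ IsClosed ({ξ} : Set X)) :
    ∃ (a b : Γ(O 1, ⊤)) (f : Γ(X, gen (O 1) a)), ξ ∈ gen (O 1) a ∧
      (O 1).presheaf.map (homOfLE (le_top : gen (O 1) a ≤ ⊤)).op b =
        f • (O 1).presheaf.map (homOfLE (le_top : gen (O 1) a ≤ ⊤)).op a ∧
      ∀ p : Polynomial k, p ≠ 0 → ξ ∈ X.basicOpen (p.eval₂ (scalOn k (gen (O 1) a)) f) := by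
  by_contra hall
  push Not at hall
  obtain ⟨l, -, hl⟩ := h.setup.cover ξ
  let L := O 1
  have hL : PicF.IsInvertible L := h.setup.fam.inv 1
  let J := Scheme.IdealSheafData.vanishingIdeal (DevLength.cl ξ)
  let Z := J.subscheme
  let i := J.subschemeι
  haveI hZ : IsIntegral Z := isIntegral_vanishingIdeal_closure ξ
  letI : Z.Over (Spec (CommRingCat.of k)) := ⟨i ≫ (X ↘ Spec (CommRingCat.of k))⟩
  haveI : IsProper (Z ↘ Spec (CommRingCat.of k)) := inferInstanceAs (IsProper (i ≫ _))
  have hrange : Set.range i = closure {ξ} := by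
    show Set.range J.subschemeι = _
    rw [J.range_subschemeι, Scheme.IdealSheafData.coe_support_vanishingIdeal]
    rfl
  let η := genericPoint Z
  have hη : i η = ξ := by
    have h1 : closure {i η} = closure {ξ} := (LeadDev.range_eq_closure i (ξ := i η) rfl).symm.trans hrange
    exact (specializes_iff_closure_subset.2 h1.ge).antisymm (specializes_iff_closure_subset.2 h1.le) |>.eq
  let N := (Scheme.Modules.pullback i).obj L
  have hN : PicF.IsInvertible N := isInvertible_pullback i hL
  let g : Γ(N, ⊤) := pullTop i (v l)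
  have hgenp : ∀ s : Γ(L, ⊤), gen N (pullTop i s) = i ⁻¹ᵁ gen L s := fun s => by
    have h1 := gen_smul_pullSect i hL s (isUnit_one (M := Γ(Z, ⊤)))
    rwa [one_smul] at h1
  have hgen : gen N g = ⊤ := by
    refine eq_top_iff.2 fun z _ => ?_
    obtain ⟨m, -, hm⟩ := h.setup.cover (i z)
    let U := gen L (v m)
    let W := i ⁻¹ᵁ U
    have hηW : η ∈ W := (genericPoint_specializes z).mem_open W.2 hm
    haveI : Nonempty W := ⟨⟨z, hm⟩⟩
    have hξU : ξ ∈ U := hη ▸ (hηW : i η ∈ U)
    have hgU : IsGen L (L.presheaf.map (homOfLE (le_top : U ≤ ⊤)).op (v m)) := isGen_gen (v m)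
    obtain ⟨f, hf⟩ := H11Ample.exists_coeff hgU (L.presheaf.map (homOfLE (le_top : U ≤ ⊤)).op (v l))
    obtain ⟨p, hp0, hp⟩ := hall (v m) (v l) f hξU hf
    let fW : Γ(Z, W) := i.app U f
    have he : IsGen N (N.presheaf.map (homOfLE (le_top : W ≤ ⊤)).op (pullTop i (v m))) := by
      have h1 := (isGen_gen (L := N) (pullTop i (v m))).res (show W ≤ gen N (pullTop i (v m)) from (hgenp _).ge)
      rwa [H10Coh.mres_mres] at h1
    have hfW : N.presheaf.map (homOfLE (le_top : W ≤ ⊤)).op g =
        fW • N.presheaf.map (homOfLE (le_top : W ≤ ⊤)).op (pullTop i (v m)) := by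
      refine (pullSect_res i L (le_top : U ≤ ⊤) (v l)).symm.trans ?_
      rw [hf, OmegaSh.pullSect_smul]
      exact congrArg (fW • ·) (pullSect_res i L (le_top : U ≤ ⊤) (v m))
    have hfne : fW ≠ 0 := fun h0 => by
      have h1 : η ∈ gen N g ⊓ W := ⟨(hgenp _).ge (show i η ∈ gen L (v l) from hη.symm ▸ hl), hηW⟩
      rw [gen_inf_eq_basicOpen he g fW hfW, h0, Scheme.basicOpen_zero] at h1
      exact h1
    letI : Algebra k Γ(Z, W) := ((i.app U).hom.comp (scalOn k U)).toAlgebra
    have halg : IsAlgebraic k fW := by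
      refine ⟨p, hp0, ?_⟩
      rw [Polynomial.aeval_def, show algebraMap k Γ(Z, W) = (i.app U).hom.comp (scalOn k U) from rfl,
        ← Polynomial.hom_eval₂]
      by_contra hne
      refine hp (hη ▸ ?_)
      have h1 : (genericPoint Z) ∈ Z.basicOpen (i.app U (p.eval₂ (scalOn k U) f)) := by
        have h2 : (Z.basicOpen (i.app U (p.eval₂ (scalOn k U) f)) : Set Z).Nonempty := by
          rw [Set.nonempty_iff_ne_empty, ← Opens.coe_bot, Ne, SetLike.coe_set_eq, basicOpen_eq_bot_iff]
          exact hne
        obtain ⟨w, hw⟩ := h2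
        exact (genericPoint_specializes w).mem_open (Z.basicOpen _).2 hw
      rw [← Scheme.preimage_basicOpen] at h1
      exact h1
    have hu : IsUnit fW := halg.isIntegral.isUnit hfne
    have h2 : z ∈ gen N g ⊓ W := by
      rw [gen_inf_eq_basicOpen he g fW hfW, Scheme.basicOpen_of_isUnit _ hu]
      exact hm
    exact h2.1
  -- the restricted twisting module is trivial
  have hZd : ∀ e : ℕ, topologicalKrullDim Z = ((e : ℕ) : WithBot ℕ∞) → 0 < e := fun e he => by
    rcases Nat.eq_zero_or_pos e with rfl | hpos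
    · exfalso
      refine hξ ?_
      haveI := H28Int.isNoetherian k (X := Z)
      have hsing : ∀ z : Z, z = η := fun z => by
        by_contra hne
        have hlt := DevLength.dim_closure_lt (genericPoint_specializes z) hne
          (((VarDim.cdim_genericPoint Z).trans he).le)
        haveI : Nonempty (closure ({z} : Set Z)) := ⟨⟨z, subset_closure rfl⟩⟩
        haveI : Nonempty (IrreducibleCloseds (closure ({z} : Set Z))) :=
          ⟨⟨closure {⟨z, subset_closure rfl⟩}, isIrreducible_singleton.closure, isClosed_closure⟩⟩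
        exact absurd hlt (not_lt.2 Order.krullDim_nonneg)
      have h1 : closure ({ξ} : Set X) = {ξ} := by
        rw [← hrange]
        ext y
        constructor
        · rintro ⟨z, rfl⟩
          rw [hsing z]
          exact hη
        · rintro rfl
          exact ⟨η, hη⟩
      rw [← h1]
      exact isClosed_closure
    · exact hpos
  obtain ⟨e, he⟩ : ∃ e : ℕ, topologicalKrullDim Z = ((e : ℕ) : WithBot ℕ∞) := by
    obtain ⟨r, hr⟩ := NumTriv.exists_dim k (X := Z)
    rcases hd : topologicalKrullDim Z with _ | D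
    · exfalso
      haveI : Nonempty (IrreducibleCloseds Z) := ⟨⟨closure {η}, isIrreducible_singleton.closure, isClosed_closure⟩⟩
      exact absurd hd (ne_of_gt (lt_of_lt_of_le (WithBot.bot_lt_coe (0 : ℕ∞)) Order.krullDim_nonneg))
    · rw [hd] at hr
      obtain ⟨e, he⟩ := ENat.ne_top_iff_exists.1 (ne_top_of_le_ne_top (ENat.natCast_ne_top r) (WithBot.coe_le_coe.1 hr))
      exact ⟨e, by rw [← he]; rfl⟩
  obtain ⟨e', rfl⟩ : ∃ e', e = e' + 1 := ⟨e - 1, by have := hZd e he; omega⟩
  haveI : IsIso (homOfGlobal N g) := H11Tilde.isIso_homOfGlobal N g fun V => by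
    have h1 := (isGen_gen g).bijective (show V ≤ gen N g from fun z _ => hgen.ge trivial)
    simp only [H10Coh.mres_mres] at h1
    exact h1
  haveI := H28Int.isNoetherian k (X := Z)
  have hNa : CohB1.IsAmple N := isAmple_pullback_of_isAffineHom i h.ample
  have hlist := Nakai.inv_replicate hNa.1 e'
  have hpos := Nakai.top_pos k hNa.1 (Nakai.pos_of_isAmple k hNa) (d := e' + 1) (Nat.succ_pos e') he
  rw [List.replicate_succ] at hpos
  have h0 : H28Int.D k (N :: List.replicate e' N) (Coh.structureModule Z) = 0 := by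
    show H28Int.D k (List.replicate e' N) _ - H28Int.D k (List.replicate e' N) _ = 0
    rw [(H28Int.isAddFn_D k _ hlist).congr (PicGrp.tensorModIso (asIso (homOfGlobal N g)).symm (Iso.refl _) ≪≫
      H10Coh.Tw.leftUnitIso _), sub_self]
  rw [h0, mul_zero] at hpos
  exact lt_irrefl _ hpos

end Groth.Agent.H12Pic.Gen
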