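import Groth.Agent.H12Pic.Gen.Push
import Groth.Agent.H12Pic.NefBC

/-!
# The top three coefficients bound the degree and the square
-/

set_option autoImplicit false
set_option linter.style.haveILetI false
set_option linter.unusedSectionVars false
set_option backward.isDefEq.respectTransparency.types false
universe u

open CategoryTheory CategoryTheory.Limits AlgebraicGeometry TopologicalSpace Opposite
open Groth.Agent.H11Ample Groth.Agent.H22Alg Groth.Agent.H22Alg.CMField

noncomputable section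

namespace Groth.Agent.H12Pic.Gen

/-- The Euler characteristics of high twists have bounded top three coefficients. -/
def TopBound (k : Type u) [Field k] {X : Scheme.{u}} [X.Over (Spec (CommRingCat.of k))]
    (O : ℤ → X.Modules) (d : ℕ) (B : ℤ) (F : X.Modules) : Prop :=
  ∃ (a : Fin (d + 3) → ℤ) (N : ℕ), (∀ m : ℕ, N ≤ m → chi k O F m = ∑ j : Fin (d + 3), a j * ((m + j).choose j : ℤ)) ∧
    |a (Fin.last (d + 2))| ≤ B ∧ |a (Fin.castSucc (Fin.last (d + 1)))| ≤ B ∧
      |a (Fin.castSucc (Fin.castSucc (Fin.last d)))| ≤ B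

/-- The conclusion: bounded degree, square bounded below. -/
def DegBound (k : Type u) [Field k] {X : Scheme.{u}} [X.Over (Spec (CommRingCat.of k))]
    (O : ℤ → X.Modules) (d : ℕ) (B : ℤ) (F : X.Modules) : Prop :=
  |NefQ.Q k (F :: List.replicate (d + 1) (O 1)) (Coh.structureModule X)| ≤ B ∧
    -B ≤ NefQ.Q k (F :: F :: List.replicate d (O 1)) (Coh.structureModule X)

section

variable (k : Type u) [Field k] {X : Scheme.{u}} [X.Over (Spec (CommRingCat.of k))]
  [IsProper (X ↘ Spec (CommRingCat.of k))] {O : ℤ → X.Modules} {n : ℕ} {v : ℕ → Γ(O 1, ⊤)}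

/-- A difference of binomial sums. -/
theorem sum_diff {d : ℕ} (a : Fin (d + 2) → ℤ) (m : ℕ) :
    (∑ j : Fin (d + 2), a j * (((m + 1) + j).choose j : ℤ)) - ∑ j : Fin (d + 2), a j * ((m + j).choose j : ℤ) =
      ∑ j : Fin (d + 1), a j.succ * (((m + 1) + j).choose j : ℤ) := by
  rw [← Finset.sum_sub_distrib, Fin.sum_univ_succ (n := d + 1)]
  simp only [Fin.val_zero, Fin.val_succ, Nat.choose_zero_right, sub_self, zero_add]
  refine Finset.sum_congr rfl fun j _ => ?_
  rw [show m + 1 + ((j : ℕ) + 1) = (m + 1 + (j : ℕ)) + 1 by ring, Nat.choose_succ_succ',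
    show m + ((j : ℕ) + 1) = m + 1 + (j : ℕ) by ring]
  push_cast; ring

/-- The intersection numbers with the twisting class, computed on the generic member. -/
theorem Q_cut (h : Emb O n v) {Z : Scheme.{u}} [Z.Over (Spec (CommRingCat.of (KM k (Idx n))))]
    [IsProper (Z ↘ Spec (CommRingCat.of (KM k (Idx n))))] (i : Z ⟶ XM k (Idx n) X) [IsClosedImmersion i]
    (hi : i ≫ (XM k (Idx n) X ↘ Spec (CommRingCat.of (KM k (Idx n)))) = Z ↘ Spec (CommRingCat.of (KM k (Idx n))))
    {φ : CohB1.tensorMod (FY k n (Coh.structureModule X)) (OY k O n (-1)) ⟶ FY k n (Coh.structureModule X)}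
    [Mono φ] (e : cokernel φ ≅ (Coh.push i).obj ((Scheme.Modules.pullback i).obj (FY k n (Coh.structureModule X))))
    (l : List X.Modules) (hl : ∀ A ∈ l, PicF.IsInvertible A)
    (hd : topologicalKrullDim Z ≤ (l.length : WithBot ℕ∞)) :
    NefQ.Q k (O 1 :: l) (Coh.structureModule X) = NefQ.Q (KM k (Idx n))
      ((l.map (Scheme.Modules.pullback (qM k (Idx n) X)).obj).map (Scheme.Modules.pullback i).obj)
      (Coh.structureModule Z) := by
  let K := KM k (Idx n)
  let q := qM k (Idx n) X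
  have hY := h.pullback q
  haveI := H28Int.isNoetherian k (X := X)
  haveI := H28Int.isNoetherian K (X := XM k (Idx n) X)
  haveI := H28Int.isNoetherian K (X := Z)
  have hO1 : PicF.IsInvertible (Coh.structureModule X) := fun y => ⟨⊤, trivial, ⟨Scheme.Modules.restrictUnitIso _⟩⟩
  let lY := l.map (Scheme.Modules.pullback q).obj
  have hlY : ∀ A ∈ lY, PicF.IsInvertible A := fun A hA => by
    obtain ⟨B, hB, rfl⟩ := List.mem_map.1 hA
    exact isInvertible_pullback q (hl B hB)
  let lZ := lY.map (Scheme.Modules.pullback i).obj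
  have hlZ : ∀ A ∈ lZ, PicF.IsInvertible A := fun A hA => by
    obtain ⟨B, hB, rfl⟩ := List.mem_map.1 hA
    exact isInvertible_pullback i (hlY B hB)
  have hFc : Coh.IsCoh (FY k n (Coh.structureModule X)) :=
    H11Ample.isCoh_of_isInvertible (isInvertible_pullback q hO1)
  obtain ⟨f, z, hS⟩ := CMGen.seq_shortExact hY.setup (ι := φ) 1
  have hadd := (H28Int.isAddFn_D K lY hlY).add _ hS (H11Ample.isCoh_tensor hFc (hY.setup.fam.inv _))
    (H11Ample.isCoh_tensor hFc (hY.setup.fam.inv _))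
    (H11Ample.isCoh_tensor (H10Coh.isCoh_cokernel φ (H11Ample.isCoh_tensor hFc (hY.setup.fam.inv _)).1 hFc) (hY.setup.fam.inv _))
  let G := (Scheme.Modules.pullback i).obj (FY k n (Coh.structureModule X))
  let eG : G ≅ Coh.structureModule Z := (Scheme.Modules.pullback i).mapIso
    (H16Derived.KFlat.Stalk.structurePullbackIso q) ≪≫ H16Derived.KFlat.Stalk.structurePullbackIso i
  obtain ⟨p⟩ := H10Coh.Tw.nonempty_push_tensor_iso i G (hY.setup.fam.inv 1)
  have hGc : Coh.IsCoh G := H11Ample.isCoh_of_isInvertible (isInvertible_pullback i (isInvertible_pullback q hO1))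
  have h3 : H28Int.D K lY (CohB1.tensorMod (cokernel φ) (OY k O n 1)) = H28Int.D K lZ (Coh.structureModule Z) := by
    rw [(H28Int.isAddFn_D K lY hlY).congr (PicGrp.tensorModIso e (Iso.refl _) ≪≫ p),
      D_push K i hi lY hlY _ (H11Ample.isCoh_tensor hGc (isInvertible_pullback i (hY.setup.fam.inv 1))),
      (H28Int.isAddFn_D K _ hlZ).congr (PicGrp.tensorModIso eG (Iso.refl _) ≪≫ H10Coh.Tw.commIso _ _),
      H28Int.D_twist K hlZ (isInvertible_pullback i (hY.setup.fam.inv 1)) (H10Coh.isCoh_structureModule' Z)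
        ((Topology.IsInducing.subtypeVal.topologicalKrullDim_le).trans (by simpa [lZ, lY] using hd))]
  obtain ⟨z0⟩ := hY.setup.fam.zero
  have h1 : H28Int.D K lY (CohB1.tensorMod (FY k n (Coh.structureModule X)) (OY k O n (1 - 1))) =
      H28Int.D K lY (FY k n (Coh.structureModule X)) :=
    (H28Int.isAddFn_D K lY hlY).congr (PicGrp.tensorModIso (Iso.refl _)
      (eqToIso (congrArg (OY k O n) (by ring : (1 : ℤ) - 1 = 0)) ≪≫ z0) ≪≫ H10Coh.Tw.rightUnitIso _)
  have h2 : H28Int.D K lY (CohB1.tensorMod (FY k n (Coh.structureModule X)) (OY k O n 1)) =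
      H28Int.D K lY (CohB1.tensorMod (OY k O n 1) (FY k n (Coh.structureModule X))) :=
    (H28Int.isAddFn_D K lY hlY).congr (H10Coh.Tw.commIso _ _)
  have hbc := NefBC.D_bc k K (sq k (Idx n) X) (O 1 :: l) (List.forall_mem_cons.2 ⟨h.setup.fam.inv 1, hl⟩)
    (Coh.structureModule X) (H10Coh.isCoh_structureModule' X)
  change H28Int.D K lY _ - H28Int.D K lY _ = _ at hbc
  change H28Int.D K lY (CohB1.tensorMod (FY k n (Coh.structureModule X)) (OY k O n 1)) =
    H28Int.D K lY (CohB1.tensorMod (FY k n (Coh.structureModule X)) (OY k O n (1 - 1))) +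
      H28Int.D K lY (CohB1.tensorMod (cokernel φ) (OY k O n 1)) at hadd
  simp only [NefQ.Q, List.length_cons, List.length_map, ← hbc]
  rw [← h2]
  rw [hadd, h1, h3]
  ring

end

/-- Bounded top three coefficients bound the degree and, from below, the square. -/
theorem degBound_of_topBound : ∀ (d : ℕ) (k : Type u) [Field k] (X : Scheme.{u}) [X.Over (Spec (CommRingCat.of k))]
    [IsProper (X ↘ Spec (CommRingCat.of k))] [IsIntegral X] (O : ℤ → X.Modules) (n : ℕ) (v : ℕ → Γ(O 1, ⊤)),
    Emb O n v → topologicalKrullDim X = ((d + 2 : ℕ) : WithBot ℕ∞) → ∀ B : ℤ,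
      ∃ B' : ℤ, ∀ F : X.Modules, PicF.IsInvertible F → TopBound k O d B F → DegBound k O d B' F := by
  intro d
  induction d with
  | zero =>
    intro k _ X _ _ _ O n v h hd B
    haveI := H28Int.isNoetherian k (X := X)
    have hdX := hd.le
    have hdd := dd_pos k h hd
    let S := Coh.structureModule X
    have hO : PicF.IsInvertible S := fun y => ⟨⊤, trivial, ⟨Scheme.Modules.restrictUnitIso _⟩⟩
    have hOc : Coh.IsCoh S := H10Coh.isCoh_structureModule' X
    obtain ⟨z⟩ := h.setup.fam.zero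
    let B0 : ℤ := |B|
    let eO := chi k O S 0 - chi k O S (-1)
    let C : ℤ → ℤ := fun j => 6 * B0 + 4 * |j| * B0 + |j * (j + 1)| * B0
    let N0 : ℕ := (2 * B0 + |eO|).toNat
    let C1 := C (-2 - (N0 : ℤ))
    let C2 := C (-1 - (N0 : ℤ))
    let M0 : ℤ := (C1 + C2) + (C1 + C2) * (C1 + C2) + C2
    let m : ℤ := -(N0 : ℤ) + M0
    let A := O m
    have hA : PicF.IsInvertible A := h.setup.fam.inv m
    refine ⟨(2 * B0 + |eO|) + (2 * (|chi k O S 0| + |chi k O S m| + C 0 + C m) + |NefQ.Q k [A, A] S|), ?_⟩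
    intro F hF ⟨a, N, hpoly, h2, h1, h0⟩
    have ha : ∀ q : ℕ, ∀ hq : q < 3, |a ⟨q, hq⟩| ≤ B0 := fun q hq => by
      interval_cases q
      · exact h0.trans (le_abs_self B)
      · exact h1.trans (le_abs_self B)
      · exact h2.trans (le_abs_self B)
    have ha0 : |a 0| ≤ B0 := ha 0 (by norm_num)
    have ha1 : |a 1| ≤ B0 := ha 1 (by norm_num)
    have ha2 : |a 2| ≤ B0 := ha 2 (by norm_num)
    have hP : ∀ q : ℕ, N ≤ q → 2 * chi k O F q = a 2 * ((q : ℤ) + 1) * ((q : ℤ) + 2) + 2 * a 1 * ((q : ℤ) + 1) + 2 * a 0 := by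
      intro q hq
      have e2 : (((q + 2).choose 2 : ℕ) : ℤ) * 2 = ((q : ℤ) + 2) * ((q : ℤ) + 1) := by
        have h' := Nat.add_one_mul_choose_eq (q + 1) 1
        rw [Nat.choose_one_right] at h'
        exact_mod_cast h'.symm
      rw [hpoly q hq]
      simp [Fin.sum_univ_three]
      linear_combination (a 2) * e2
    have hN0 := (hP N le_rfl)
    have hN1 := (hP (N + 1) (Nat.le_succ N))
    have hN2 := (hP (N + 2) (by omega))
    push_cast at hN1 hN2
    have q0 := (chi_quad k h hdX hF N).1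
    have q1 := (chi_quad k h hdX hF ((N : ℤ) + 1)).1
    have q2 := (chi_quad k h hdX hF ((N : ℤ) + 2)).1
    set c0 := chi k O F 0 with hc0
    set e0 := chi k O F 0 - chi k O F (-1) with he0
    have hdd' : dd k O = a 2 := by linarith
    have he : e0 = a 2 + a 1 := by
      rw [hdd'] at q0 q1
      linarith
    have hc : c0 = a 2 + a 1 + a 0 := by
      rw [hdd', he] at q0
      linarith
    have hchi : ∀ j : ℤ, 2 * chi k O F j = 2 * (a 2 + a 1 + a 0) + 2 * j * (a 2 + a 1) + j * (j + 1) * a 2 := fun j => by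
      rw [(chi_quad k h hdX hF j).1, hdd', ← hc0, ← he0, he, hc]
    have hCb : ∀ j, |chi k O F j| ≤ C j := fun j => by
      have h3 := abs_add_le (2 * (a 2 + a 1 + a 0) + 2 * j * (a 2 + a 1)) (j * (j + 1) * a 2)
      have h4 := abs_add_le (2 * (a 2 + a 1 + a 0)) (2 * j * (a 2 + a 1))
      have h5 := abs_add_three (a 2) (a 1) (a 0)
      have h6 := abs_add_le (a 2) (a 1)
      rw [← hchi j, abs_mul, abs_two, abs_mul (j * (j + 1))] at h3
      rw [abs_mul, abs_two, abs_mul (2 * j), abs_mul, abs_two] at h4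
      have h7 : |j| * |a 2 + a 1| ≤ |j| * (2 * B0) := mul_le_mul_of_nonneg_left (by linarith) (abs_nonneg j)
      have h8 : |j * (j + 1)| * |a 2| ≤ |j * (j + 1)| * B0 := mul_le_mul_of_nonneg_left ha2 (abs_nonneg _)
      have := abs_nonneg (chi k O F j)
      show _ ≤ 6 * B0 + 4 * |j| * B0 + |j * (j + 1)| * B0
      linarith
    have eF0 : Curv2.euler k X F = chi k O F 0 :=
      H25Euler.euler_congr ((H10Coh.Tw.rightUnitIso F).symm ≪≫ PicGrp.tensorModIso (Iso.refl F) z.symm)
    have eS0 : Curv2.euler k X S = chi k O S 0 :=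
      (H25Euler.euler_congr z.symm).trans (chi_structure k 0).symm
    have hdeg : |NefQ.Q k [F, O 1] S| ≤ 2 * B0 + |eO| := by
      have h3 := (chi_quad k h hdX hF 1).2
      have h4 := (chi_quad k h hdX hO 1).2
      rw [sub_self] at h3 h4
      have h5 : NefQ.Q k [F, O 1] S = (a 2 + a 1) - eO := by
        simp only [NefQ.Q, List.length_cons, List.length_nil]
        rw [D_two, eS0, eF0, ← chi_structure k 1]
        show (-1 : ℤ) ^ 2 * (_ - _ - _ + chi k O F 1) = _
        norm_num
        linarith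
      rw [h5]
      exact (abs_sub _ _).trans (add_le_add ((abs_add_le _ _).trans (by linarith)) le_rfl)
    have hB0 : 0 ≤ B0 := abs_nonneg B
    have hN0' : (N0 : ℤ) = 2 * B0 + |eO| := Int.toNat_of_nonneg (by positivity)
    let F' := CohB1.tensorMod F (O (-(N0 : ℤ)))
    have hF' : PicF.IsInvertible F' := H11Ample.isInvertible_tensor hF (h.setup.fam.inv _)
    have ht : ∀ j, chi k O F' j = chi k O F (-(N0 : ℤ) + j) := chi_twist k h F _
    have hneg : chi k O F' 0 - chi k O F' (-1) ≤ chi k O S 0 - chi k O S (-1) := by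
      have h3 := (chi_quad k h hdX hF (-(N0 : ℤ))).2
      rw [ht, ht, add_zero, ← sub_eq_add_neg, h3, ← he0, he, hdd']
      have h4 : (N0 : ℤ) * 1 ≤ (N0 : ℤ) * a 2 := mul_le_mul_of_nonneg_left (by omega) (by omega)
      have := le_abs_self (a 2)
      have := le_abs_self (a 1)
      have := neg_abs_le eO
      show _ ≤ eO
      linarith
    obtain ⟨c, hc', -, -, hreg⟩ := surface_bounds k h hd hF' hneg
    have b1 := hCb (-(N0 : ℤ) + -2)
    have b2 := hCb (-(N0 : ℤ) + -1)
    rw [show -(N0 : ℤ) + -2 = -2 - (N0 : ℤ) by ring] at b1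
    rw [show -(N0 : ℤ) + -1 = -1 - (N0 : ℤ) by ring] at b2
    have b1' : |chi k O F' (-2)| ≤ C1 := by rw [ht]; exact hCb _ |>.trans_eq (by simp only [C1]; congr 1; ring)
    have b2' : |chi k O F' (-1)| ≤ C2 := by rw [ht]; exact hCb _ |>.trans_eq (by simp only [C2]; congr 1; ring)
    have hcC : (c : ℤ) ≤ C1 + C2 := by
      rw [hc']
      exact (le_abs_self _).trans ((abs_sub _ _).trans (add_le_add b1' b2'))
    have hle : (c : ℤ) + ((c : ℤ) * ((c : ℤ) - 1) - chi k O F' (-1)) ≤ M0 := by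
      have h5 : (c : ℤ) * (c : ℤ) ≤ (C1 + C2) * (C1 + C2) := mul_le_mul hcC hcC (by omega) (by omega)
      have := neg_abs_le (chi k O F' (-1))
      show _ ≤ (C1 + C2) + (C1 + C2) * (C1 + C2) + C2
      linarith
    obtain ⟨t, ht'⟩ := Int.le.dest hle
    have hreg' := reg_add h.setup hreg t
    rw [ht'] at hreg'
    haveI : CompactSpace X := inferInstance
    have hgg := CMField.isGloballyGenerated h.setup h.ample (H11Ample.isCoh_of_isInvertible hF') hreg'
    obtain ⟨eA⟩ := h.setup.fam.add (-(N0 : ℤ)) M0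
    let L := CohB1.tensorMod F A
    have hL : PicF.IsInvertible L := H11Ample.isInvertible_tensor hF hA
    have hggL : Curv2.IsGloballyGenerated L :=
      H11Ample.isGloballyGenerated_of_iso (H10Coh.Tw.assoc _ _ _ ≪≫ PicGrp.tensorModIso (Iso.refl F) eA) hgg
    have hpos := Kleiman.mixed_nonneg k 2 X L (O 1) hL (nef_of_gg k h.ample hL hggL) h.ample hd 2 le_rfl
    change 0 ≤ NefQ.Q k [L, L] S at hpos
    have hds : topologicalKrullDim (CohB1.support S) ≤ ((2 : ℕ) : WithBot ℕ∞) :=
      (Topology.IsInducing.subtypeVal.topologicalKrullDim_le).trans hdX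
    have hperm : ∀ P R : X.Modules, PicF.IsInvertible P → PicF.IsInvertible R → NefQ.Q k [P, R] S = NefQ.Q k [R, P] S :=
      fun P R hP hR => NefQ.Q_perm k (List.Perm.swap R P []) (by simp [hP, hR]) S
    have hexp : NefQ.Q k [L, L] S = NefQ.Q k [F, F] S + 2 * NefQ.Q k [F, A] S + NefQ.Q k [A, A] S := by
      rw [NefQ.Q_cons_tensor k (l := [L]) (by simpa using hL) hF hA hOc hds, hperm F L hF hL, hperm A L hA hL,
        NefQ.Q_cons_tensor k (l := [F]) (by simpa using hF) hF hA hOc hds,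
        NefQ.Q_cons_tensor k (l := [A]) (by simpa using hA) hF hA hOc hds, hperm A F hA hF]
      ring
    have hFA : |NefQ.Q k [F, A] S| ≤ |chi k O S 0| + |chi k O S m| + C 0 + C m := by
      have h5 : NefQ.Q k [F, A] S = chi k O S 0 - chi k O S m - chi k O F 0 + chi k O F m := by
        simp only [NefQ.Q, List.length_cons, List.length_nil]
        rw [D_two, eS0, eF0, ← chi_structure k m]
        show (-1 : ℤ) ^ 2 * (_ - _ - _ + chi k O F m) = _
        ring
      rw [h5]
      have := hCb 0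
      have := hCb m
      have := abs_add_le (chi k O S 0 - chi k O S m - chi k O F 0) (chi k O F m)
      have := abs_sub (chi k O S 0 - chi k O S m) (chi k O F 0)
      have := abs_sub (chi k O S 0) (chi k O S m)
      linarith
    have n1 := abs_nonneg (NefQ.Q k [F, A] S)
    have n2 := abs_nonneg (NefQ.Q k [A, A] S)
    have n3 := abs_nonneg eO
    refine ⟨hdeg.trans (by linarith), ?_⟩
    show _ ≤ NefQ.Q k [F, F] S
    rw [hexp] at hpos
    have := le_abs_self (NefQ.Q k [F, A] S)
    have := le_abs_self (NefQ.Q k [A, A] S)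
    linarith
  | succ d ih =>
    intro k _ X _ _ _ O n v h hd B
    obtain ⟨Z, iO, iP, iI, i, iC, w, hi, hdZ, hZ, -, hseq⟩ := exists_cut k h (r := d + 2) (hd.trans rfl)
    haveI := H28Int.isNoetherian k (X := X)
    let K := KM k (Idx n)
    let q := qM k (Idx n) X
    obtain ⟨B', hB'⟩ := ih K Z (fun a => (Scheme.Modules.pullback i).obj (OY k O n a)) n w hZ hdZ B
    have hO : PicF.IsInvertible (Coh.structureModule X) := fun y => ⟨⊤, trivial, ⟨Scheme.Modules.restrictUnitIso _⟩⟩
    obtain ⟨φ0, hφ0, -, -, -, ⟨e0⟩⟩ := hseq _ hO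
    refine ⟨B', fun F hF ⟨a, N, hpoly, h2, h1, h0⟩ => ?_⟩
    let G := (Scheme.Modules.pullback i).obj (FY k n F)
    have hG : PicF.IsInvertible G := isInvertible_pullback i (isInvertible_pullback q hF)
    have hGb : TopBound K (fun a => (Scheme.Modules.pullback i).obj (OY k O n a)) d B G := by
      refine ⟨fun j => a j.succ, N + 1, fun m hm => ?_, h2, h1, h0⟩
      obtain ⟨φ, hφ, hcoh, -, heu, -⟩ := hseq F hF
      have hY := h.pullback q
      haveI := H28Int.isNoetherian K (X := XM k (Idx n) X)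
      obtain ⟨f, zz, hS⟩ := CMGen.seq_shortExact hY.setup (ι := φ) (m : ℤ)
      have hcA : Coh.IsCoh (FY k n F) := H11Ample.isCoh_of_isInvertible (isInvertible_pullback q hF)
      have h4 := H25Euler.euler_add (k := K) hS (H11Ample.isCoh_tensor hcA (hY.setup.fam.inv _))
        (H11Ample.isCoh_tensor hcA (hY.setup.fam.inv _)) (H11Ample.isCoh_tensor hcoh (hY.setup.fam.inv _))
      have hbc := fun a => euler_bc k (H11Ample.isCoh_of_isInvertible hF) a (h.setup.fam.inv a) (n := n) (O := O)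
      have h5 : chi k O F m - chi k O F ((m : ℤ) - 1) =
          chi K (fun a => (Scheme.Modules.pullback i).obj (OY k O n a)) G m :=
        sub_eq_of_eq_add' (((hbc m).symm.trans h4).trans (congrArg₂ (· + ·) (hbc _) (heu m)))
      obtain ⟨m', rfl⟩ : ∃ m', m = m' + 1 := ⟨m - 1, by omega⟩
      rw [← h5, hpoly _ (by omega), show (((m' + 1 : ℕ) : ℤ)) - 1 = (m' : ℕ) by push_cast; ring, hpoly _ (by omega)]
      exact sum_diff a m'
    obtain ⟨r1, r2⟩ := hB' G hG hGb
    have hH := h.setup.fam.inv 1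
    have hHl : ∀ j, ∀ A ∈ List.replicate j (O 1), PicF.IsInvertible A := fun j A hA =>
      List.eq_of_mem_replicate hA ▸ hH
    have c1 := Q_cut k h i hi e0 (F :: List.replicate (d + 1) (O 1)) (List.forall_mem_cons.2 ⟨hF, hHl _⟩)
      (hdZ.le.trans_eq (congrArg (fun j : ℕ => (j : WithBot ℕ∞)) (by simp)))
    have c2 := Q_cut k h i hi e0 (F :: F :: List.replicate d (O 1))
      (List.forall_mem_cons.2 ⟨hF, List.forall_mem_cons.2 ⟨hF, hHl _⟩⟩) (hdZ.le.trans_eq (congrArg (fun j : ℕ => (j : WithBot ℕ∞)) (by simp)))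
    simp only [List.map_cons, List.map_replicate] at c1 c2
    refine ⟨?_, ?_⟩
    · rw [List.replicate_succ, ← NefQ.Q_perm k (List.Perm.swap F (O 1) _)
        (List.forall_mem_cons.2 ⟨hH, List.forall_mem_cons.2 ⟨hF, hHl _⟩⟩) _, c1]
      exact r1
    · rw [List.replicate_succ, ← NefQ.Q_perm k (((List.Perm.swap F (O 1) _)).trans ((List.Perm.swap F (O 1) _).cons F))
        (List.forall_mem_cons.2 ⟨hH, List.forall_mem_cons.2 ⟨hF, List.forall_mem_cons.2 ⟨hF, hHl _⟩⟩⟩) _, c2]
      exact r2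

end Groth.Agent.H12Pic.Gen
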