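import Groth.Agent.H12Pic.Gen.Member
import Groth.Agent.H12Pic.Gen.CMGen
import Groth.Agent.H22Alg.SnapperDev
import Groth.Agent.H10Coh.Serre

/-!
# The sequence of a divisor in the linear system of the twisting sections
-/

set_option autoImplicit false
set_option linter.style.haveILetI false
set_option linter.unusedSectionVars false
set_option backward.isDefEq.respectTransparency.types false
universe u

open CategoryTheory CategoryTheory.Limits AlgebraicGeometry TopologicalSpace Opposite
open Groth.Agent.H11Ample Groth.Agent.H22Alg Groth.Agent.H22Alg.CMField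
attribute [local instance 10000] Groth.Agent.H10Coh.hasSheafifyAb Groth.Agent.H10Coh.hasWeakSheafifyAb Groth.Agent.H10Coh.hasExtAb Groth.Agent.H10Coh.enoughInjAb

noncomputable section

namespace Groth.Agent.H12Pic.Gen

/-- The dimension of a cohomology group. -/
abbrev hh (k : Type u) [Field k] {X : Scheme.{u}} [X.Over (Spec (CommRingCat.of k))] (M : X.Modules) (p : ℕ) : ℕ :=
  Module.finrank k (Coh.HH X M p)

section

variable {k : Type u} [Field k] {X : Scheme.{u}} [X.Over (Spec (CommRingCat.of k))]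

theorem hh_congr {M N : X.Modules} (e : M ≅ N) (p : ℕ) : hh k M p = hh k N p := by
  refine (LinearEquiv.ofBijective (Canon.HHlin k e.hom p) (Function.bijective_iff_has_inverse.2
    ⟨Canon.HHlin k e.inv p, fun x => ?_, fun x => ?_⟩)).finrank_eq
  · rw [← H29RR.hhlin_comp, e.hom_inv_id, H29RR.hhlin_id]
  · rw [← H29RR.hhlin_comp, e.inv_hom_id, H29RR.hhlin_id]

theorem van_iff_hh [IsProper (X ↘ Spec (CommRingCat.of k))] {M : X.Modules} (hM : Coh.IsCoh M) (p : ℕ) :
    Van p M ↔ hh k M p = 0 := by
  haveI := H28Int.isNoetherian k (X := X)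
  haveI := H10Coh.finite_HH_proper k X _ hM p
  exact van_iff.trans Module.finrank_zero_iff.symm

end

variable {Y : Scheme.{u}} {N : Y.Modules}

/-- Multiplication by the equation of a divisor. -/
theorem exists_seq (I : Y.IdealSheafData) (e : ClSub.idealMod I ≅ N) (F : Y.Modules) (hF : PicF.IsInvertible F) :
    ∃ (φ : CohB1.tensorMod F N ⟶ F) (_ : Mono φ),
      Nonempty (cokernel φ ≅ (Coh.push I.subschemeι).obj ((Scheme.Modules.pullback I.subschemeι).obj F)) := by
  haveI := H10Coh.epi_toSubscheme I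
  let S : ShortComplex Y.Modules :=
    ShortComplex.mk (ClSub.idealModι I) (ClSub.toSubscheme I) (kernel.condition _)
  have hS : S.ShortExact :=
    { exact := ShortComplex.exact_kernel _
      mono_f := inferInstanceAs (Mono (kernel.ι _))
      epi_g := inferInstanceAs (Epi (ClSub.toSubscheme I)) }
  let T := H10Coh.Tw.seq S hF
  have hT : T.ShortExact := H10Coh.Tw.shortExact_seq hS hF
  let a : CohB1.tensorMod F N ≅ T.X₁ :=
    H10Coh.Tw.commIso F N ≪≫ PicGrp.tensorModIso e.symm (Iso.refl F)
  let l : T.X₂ ≅ F := H10Coh.Tw.leftUnitIso F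
  haveI : Mono T.f := hT.mono_f
  let φ := a.hom ≫ T.f ≫ l.hom
  refine ⟨φ, inferInstance, ?_⟩
  obtain ⟨p⟩ := H10Coh.Tw.nonempty_push_tensor_iso I.subschemeι (Coh.structureModule I.subscheme) hF
  have w : φ ≫ l.inv ≫ T.g = 0 := by
    simp only [φ, Category.assoc, Iso.hom_inv_id_assoc, T.zero, comp_zero]
  have hS' : (ShortComplex.mk φ (l.inv ≫ T.g) w).ShortExact :=
    ShortComplex.shortExact_of_iso (ShortComplex.isoMk (S₁ := T) a.symm l (Iso.refl _)
      (by simp [φ]) (by simp)) hT
  exact ⟨(cokernelIsCokernel φ).coconePointUniqueUpToIso hS'.gIsCokernel ≪≫ p ≪≫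
    (Coh.push I.subschemeι).mapIso (H10Coh.Tw.leftUnitIso _)⟩

end Groth.Agent.H12Pic.Gen
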