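import Groth.Agent.H12Pic.Gen.Chi

/-!
# Cohomology of the twists of an invertible module on a surface
-/

set_option autoImplicit false
set_option linter.style.haveILetI false
set_option linter.unusedSectionVars false
set_option backward.isDefEq.respectTransparency.types false
universe u

open CategoryTheory CategoryTheory.Limits AlgebraicGeometry TopologicalSpace Opposite
open Groth.Agent.H11Ample Groth.Agent.H22Alg Groth.Agent.H22Alg.CMField

noncomputable section

namespace Groth.Agent.H12Pic.Gen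

/-- The sum `∑ (c - 1 - s)` is at most `c (c - 1) / 2`. -/
theorem two_sum_le : ∀ c t : ℕ, 2 * ∑ s ∈ Finset.range t, (c - 1 - s) ≤ c * (c - 1)
  | _, 0 => by simp
  | 0, t + 1 => by simp
  | c + 1, t + 1 => by
    have h := two_sum_le c t
    rw [Finset.sum_range_succ']
    have e : ∀ s, c + 1 - 1 - (s + 1) = c - 1 - s := fun s => by omega
    simp only [Nat.add_sub_cancel, Nat.sub_zero]
    rcases c with _ | c
    · simp
    · simp only [Nat.add_sub_cancel] at h ⊢
      simp only [Nat.add_sub_add_right]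
      nlinarith

variable (k : Type u) [Field k] {X : Scheme.{u}} [X.Over (Spec (CommRingCat.of k))]
  [IsProper (X ↘ Spec (CommRingCat.of k))] {O : ℤ → X.Modules} {n : ℕ} {v : ℕ → Γ(O 1, ⊤)}

/-- On an integral curve the first cohomology of the twists decreases strictly until it vanishes. -/
theorem curve_decay [IsIntegral X] (h : Emb O n v) (hd : topologicalKrullDim X = ((1 : ℕ) : WithBot ℕ∞))
    {F : X.Modules} (hF : PicF.IsInvertible F) (t : ℕ) :
    hh k (CohB1.tensorMod F (O ((t : ℤ) - 1))) 1 ≤ hh k (CohB1.tensorMod F (O (-1))) 1 - t := by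
  obtain ⟨Z, _, _, _, i, _, w, hi, hdZ, hZ, -, hseq⟩ := exists_cut k h (r := 0) hd
  obtain ⟨φ, hφ, hcoh, hhh, -⟩ := hseq F hF
  have hY := h.pullback (qM k (Idx n) X)
  have hcF : Coh.IsCoh F := H11Ample.isCoh_of_isInvertible hF
  have hFY : PicF.IsInvertible (FY k n F) := isInvertible_pullback _ hF
  haveI := H28Int.isNoetherian (KM k (Idx n)) (X := XM k (Idx n) X)
  have hG : Reg (OY k O n) (cokernel φ) 0 := fun p hp => by
    rw [van_iff_hh (k := KM k (Idx n)) (H11Ample.isCoh_tensor hcoh (hY.setup.fam.inv _)), hhh]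
    exact hh_high (KM k (Idx n)) hdZ.le (H11Ample.isCoh_of_isInvertible (isInvertible_tensor
      (isInvertible_pullback i hFY) (hZ.setup.fam.inv _))).1 hp
  have hb := CMGen.h1_bound (k := KM k (Idx n)) hY.setup hY.ample (F := FY k n F) (ι := φ)
    (H11Ample.isCoh_of_isInvertible hFY) hG t
  have e : ∀ j, CMGen.h1 (KM k (Idx n)) (OY k O n) (FY k n F) j = hh k (CohB1.tensorMod F (O j)) 1 :=
    fun j => hh_bc k hcF j (h.setup.fam.inv j) 1
  rw [e, e, show (0 : ℤ) - 1 + t = (t : ℤ) - 1 by ring, show (0 : ℤ) - 1 = -1 by ring] at hb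
  omega

/-- The bounds on an integral surface, for a module of nonpositive degree. -/
theorem surface_bounds [IsIntegral X] (h : Emb O n v) (hd : topologicalKrullDim X = ((2 : ℕ) : WithBot ℕ∞))
    {F : X.Modules} (hF : PicF.IsInvertible F)
    (hneg : chi k O F 0 - chi k O F (-1) ≤ chi k O (Coh.structureModule X) 0 - chi k O (Coh.structureModule X) (-1)) :
    ∃ c : ℕ, (c : ℤ) = chi k O F (-2) - chi k O F (-1) ∧ 2 * chi k O F (-1) ≤ (c : ℤ) * ((c : ℤ) - 1) ∧
      (∀ j : ℤ, (hh k (CohB1.tensorMod F (O j)) 1 : ℤ) ≤ (c : ℤ) * ((c : ℤ) - 1) - chi k O F (-1)) ∧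
      Reg O F ((c : ℤ) + ((c : ℤ) * ((c : ℤ) - 1) - chi k O F (-1))) := by
  obtain ⟨Z, _, _, _, i, _, w, hi, hdZ, hZ, -, hseq⟩ := exists_cut k h (r := 1) hd
  let K := KM k (Idx n)
  let Y := XM k (Idx n) X
  have hY := h.pullback (qM k (Idx n) X)
  haveI := H28Int.isNoetherian k (X := X)
  haveI := H28Int.isNoetherian K (X := Y)
  let OZ : ℤ → Z.Modules := fun a => (Scheme.Modules.pullback i).obj (OY k O n a)
  have hO1 : PicF.IsInvertible (Coh.structureModule X) := fun y => ⟨⊤, trivial, ⟨Scheme.Modules.restrictUnitIso _⟩⟩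
  have hdX := hd.le
  -- the sequences
  have hdiff : ∀ (A : X.Modules), PicF.IsInvertible A → ∀ j, chi k O A j - chi k O A (j - 1) =
      chi K OZ ((Scheme.Modules.pullback i).obj (FY k n A)) j := by
    intro A hA j
    obtain ⟨φ, hφ, hcoh, -, heu, -⟩ := hseq A hA
    obtain ⟨f, z, hS⟩ := CMGen.seq_shortExact hY.setup (ι := φ) j
    have hcA : Coh.IsCoh (FY k n A) := H11Ample.isCoh_of_isInvertible (isInvertible_pullback _ hA)
    have h2 := H25Euler.euler_add (k := K) hS (H11Ample.isCoh_tensor hcA (hY.setup.fam.inv _))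
      (H11Ample.isCoh_tensor hcA (hY.setup.fam.inv _)) (H11Ample.isCoh_tensor hcoh (hY.setup.fam.inv _))
    have hbc := fun a => euler_bc k (H11Ample.isCoh_of_isInvertible hA) a (h.setup.fam.inv a) (n := n) (O := O)
    exact sub_eq_of_eq_add' (((hbc j).symm.trans h2).trans (congrArg₂ (· + ·) (hbc (j - 1)) (heu j)))
  have hOZ : ∀ j, chi k O (Coh.structureModule X) j - chi k O (Coh.structureModule X) (j - 1) =
      Curv2.euler K Z (OZ j) := fun j => by
    rw [hdiff _ hO1 j, chi_congr K ((Scheme.Modules.pullback i).mapIso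
      (H16Derived.KFlat.Stalk.structurePullbackIso (qM k (Idx n) X)) ≪≫ H16Derived.KFlat.Stalk.structurePullbackIso i) j]
    exact chi_structure K j
  obtain ⟨φ, hφ, hcoh, hhh, -⟩ := hseq F hF
  let G := (Scheme.Modules.pullback i).obj (FY k n F)
  have hcF : Coh.IsCoh F := H11Ample.isCoh_of_isInvertible hF
  have hFY : PicF.IsInvertible (FY k n F) := isInvertible_pullback _ hF
  have hGi : PicF.IsInvertible G := isInvertible_pullback i hFY
  have hGj : ∀ j, PicF.IsInvertible (CohB1.tensorMod G (OZ j)) := fun j =>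
    isInvertible_tensor hGi (hZ.setup.fam.inv j)
  have hdd := dd_pos k h hd
  have hlin : ∀ A : X.Modules, PicF.IsInvertible A → ∀ j, chi k O A j - chi k O A (j - 1) =
      chi k O A 0 - chi k O A (-1) + j * dd k O := by
    intro A hA j
    induction j using Int.induction_on with
    | zero => simp
    | succ j ih =>
      have := chi_diff k h hdX hA j
      rw [show (j : ℤ) + 1 - 1 = j by ring]
      linarith
    | pred j ih =>
      have := chi_diff k h hdX hA (-(j : ℤ) - 1)
      rw [show -(j : ℤ) - 1 + 1 = -j by ring] at this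
      linarith
  -- no sections in negative degree
  have hG0 : ∀ j : ℤ, j ≤ -1 → hh K (CohB1.tensorMod G (OZ j)) 0 = 0 := fun j hj => by
    refine hh_zero_eq_zero K hZ.ample hdZ.le (hGj j) ?_
    have h1 : Curv2.euler K Z (CohB1.tensorMod G (OZ j)) = chi k O F j - chi k O F (j - 1) := (hdiff F hF j).symm
    have h2 : Curv2.euler K Z (Coh.structureModule Z) = Curv2.euler K Z (OZ 0) := by
      obtain ⟨z⟩ := hZ.setup.fam.zero
      exact H25Euler.euler_congr z.symm
    rw [h1, h2, ← hOZ 0, hlin F hF j, show (0 : ℤ) - 1 = -1 by ring]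
    have : j * dd k O ≤ -1 * dd k O := mul_le_mul_of_nonneg_right hj hdd.le
    linarith
  have hF0 : hh k (CohB1.tensorMod F (O (-1))) 0 = 0 := by
    refine hh_zero_eq_zero_two k h.ample hdX (isInvertible_tensor hF (h.setup.fam.inv _)) ?_
    obtain ⟨z⟩ := h.setup.fam.zero
    have e1 : Curv2.euler k X (Coh.structureModule X) = chi k O (Coh.structureModule X) 0 :=
      (H25Euler.euler_congr z.symm).trans (chi_structure k 0).symm
    have e2 : Curv2.euler k X (CohB1.tensorMod (CohB1.tensorMod F (O (-1))) (O 1)) = chi k O F 0 :=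
      chi_twist k h F (-1) 1
    rw [e1, ← chi_structure k 1, e2]
    have := hlin _ hO1 1
    rw [show (1 : ℤ) - 1 = 0 by ring] at this
    show _ - _ - chi k O F (-1) + _ < 0
    linarith
  -- cohomology of the curve
  let g : ℤ → ℕ := fun j => hh K (CohB1.tensorMod G (OZ j)) 1
  let c := g (-1)
  have hdec : ∀ t : ℕ, g ((t : ℤ) - 1) ≤ c - t := fun t => curve_decay K hZ hdZ hGi t
  have hc : (c : ℤ) = chi k O F (-2) - chi k O F (-1) := by
    have h1 := hdiff F hF (-1)
    rw [show (-1 : ℤ) - 1 = -2 by ring] at h1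
    have h2 := euler_two K (hdZ.le.trans (by norm_num)) (H11Ample.isCoh_of_isInvertible (hGj (-1))).1
    rw [hG0 (-1) le_rfl, hh_high K hdZ.le (H11Ample.isCoh_of_isInvertible (hGj (-1))).1 one_lt_two] at h2
    change chi k O F (-1) - chi k O F (-2) = Curv2.euler K Z _ at h1
    rw [h2] at h1
    push_cast at h1
    show (hh K (CohB1.tensorMod G (OZ (-1))) 1 : ℤ) = _
    linarith
  -- the inequalities of the long sequence
  let a : ℕ → ℤ → ℕ := fun p j => hh k (CohB1.tensorMod F (O j)) p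
  have hcY : Coh.IsCoh (FY k n F) := H11Ample.isCoh_of_isInvertible hFY
  have hA : ∀ p j, hh K (CohB1.tensorMod (FY k n F) (OY k O n j)) p = a p j := fun p j =>
    hh_bc k hcF j (h.setup.fam.inv j) p
  have hmid : ∀ p j, a p j ≤ a p (j - 1) + hh K (CohB1.tensorMod G (OZ j)) p := fun p j => by
    obtain ⟨f, z, hS⟩ := CMGen.seq_shortExact hY.setup (ι := φ) j
    have := hh_mid_le (k := K) hS (H11Ample.isCoh_tensor hcY (hY.setup.fam.inv _))
      (H11Ample.isCoh_tensor hcY (hY.setup.fam.inv _)) (H11Ample.isCoh_tensor hcoh (hY.setup.fam.inv _)) p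
    exact (hA _ _).ge.trans (this.trans (le_of_eq (congrArg₂ (· + ·) (hA _ _) (hhh j p))))
  have hfst : ∀ p j, a (p + 1) (j - 1) ≤ hh K (CohB1.tensorMod G (OZ j)) p + a (p + 1) j := fun p j => by
    obtain ⟨f, z, hS⟩ := CMGen.seq_shortExact hY.setup (ι := φ) j
    have := hh_first_le (k := K) hS (H11Ample.isCoh_tensor hcY (hY.setup.fam.inv _))
      (H11Ample.isCoh_tensor hcY (hY.setup.fam.inv _)) (H11Ample.isCoh_tensor hcoh (hY.setup.fam.inv _)) p
    exact (hA _ _).ge.trans (this.trans (le_of_eq (congrArg₂ (· + ·) (hhh j p) (hA _ _))))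
  let T : ℕ → ℕ := fun t => ∑ s ∈ Finset.range t, (c - 1 - s)
  have hstep : ∀ t : ℕ, g (t : ℤ) ≤ c - 1 - t := fun t => by
    have := hdec (t + 1)
    rw [show (((t + 1 : ℕ) : ℤ)) - 1 = (t : ℤ) by push_cast; ring] at this
    omega
  have h2t : ∀ t : ℕ, a 2 (-1) ≤ T t + a 2 ((t : ℤ) - 1) := fun t => by
    induction t with
    | zero => simp [T]
    | succ t ih =>
      have h1 := hfst 1 t
      have h3 := hstep t
      rw [show (((t + 1 : ℕ) : ℤ)) - 1 = (t : ℤ) by push_cast; ring]
      simp only [T, Finset.sum_range_succ] at ih ⊢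
      change a 2 ((t : ℤ) - 1) ≤ g (t : ℤ) + a 2 (t : ℤ) at h1
      omega
  have h1t : ∀ t : ℕ, a 1 ((t : ℤ) - 1) ≤ a 1 (-1) + T t := fun t => by
    induction t with
    | zero => simp [T]
    | succ t ih =>
      have h1 := hmid 1 t
      have h3 := hstep t
      rw [show (((t + 1 : ℕ) : ℤ)) - 1 = (t : ℤ) by push_cast; ring]
      simp only [T, Finset.sum_range_succ] at ih ⊢
      change a 1 (t : ℤ) ≤ a 1 ((t : ℤ) - 1) + g (t : ℤ) at h1
      omega
  have h1neg : ∀ t : ℕ, a 1 (-1 - t) ≤ a 1 (-1) := fun t => by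
    induction t with
    | zero => simp
    | succ t ih =>
      have h1 := hfst 0 (-1 - t)
      rw [hG0 _ (by omega)] at h1
      rw [show (-1 : ℤ) - ((t + 1 : ℕ) : ℤ) = -1 - (t : ℤ) - 1 by push_cast; ring]
      change a 1 (-1 - (t : ℤ) - 1) ≤ 0 + a 1 (-1 - (t : ℤ)) at h1
      omega
  have hT : ∀ t, 2 * (T t : ℤ) ≤ (c : ℤ) * ((c : ℤ) - 1) := fun t => by
    have h1 : ((2 * T t : ℕ) : ℤ) ≤ ((c * (c - 1) : ℕ) : ℤ) := Int.ofNat_le.2 (two_sum_le c t)
    rcases c with _ | c
    · simpa using h1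
    · simpa using h1
  obtain ⟨N, hN⟩ := CMGen.exists_van k h.setup h.ample hcF
  have h2 : 2 * (a 2 (-1) : ℤ) ≤ (c : ℤ) * ((c : ℤ) - 1) := by
    have h0 : a 2 ((((N + 1).toNat : ℕ) : ℤ) - 1) = 0 :=
      (van_iff_hh (k := k) (H11Ample.isCoh_tensor hcF (h.setup.fam.inv _)) 2).1 (hN _ (by omega) 2 one_le_two)
    have := h2t (N + 1).toNat
    rw [h0] at this
    have := hT (N + 1).toNat
    omega
  have hχ : chi k O F (-1) = (a 2 (-1) : ℤ) - a 1 (-1) := by
    have := euler_two k hdX (H11Ample.isCoh_tensor hcF (h.setup.fam.inv (-1))).1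
    rw [hF0] at this
    show Curv2.euler k X _ = _
    rw [this]; push_cast; ring
  have hall : ∀ j : ℤ, (a 1 j : ℤ) ≤ (c : ℤ) * ((c : ℤ) - 1) - chi k O F (-1) := fun j => by
    rcases le_total j (-1) with hj | hj
    · obtain ⟨t, rfl⟩ : ∃ t : ℕ, j = -1 - t := ⟨(-1 - j).toNat, by omega⟩
      have := h1neg t
      omega
    · obtain ⟨t, rfl⟩ : ∃ t : ℕ, j = (t : ℤ) - 1 := ⟨(j + 1).toNat, by omega⟩
      have := h1t t
      have := hT t
      omega
  refine ⟨c, hc, by omega, hall, fun p hp => ?_⟩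
  have hG : Reg (OY k O n) (cokernel φ) (c : ℤ) := fun q hq => by
    rw [van_iff_hh (k := K) (H11Ample.isCoh_tensor hcoh (hY.setup.fam.inv _)), hhh]
    rcases Nat.lt_or_ge q 2 with hq2 | hq2
    · obtain rfl : q = 1 := by omega
      have := hdec c
      show g ((c : ℤ) - ((1 : ℕ) : ℤ)) = 0
      push_cast
      omega
    · exact hh_high K hdZ.le (H11Ample.isCoh_of_isInvertible (hGj _)).1 hq2
  have hb := hall ((c : ℤ) - 1)
  rw [van_iff_hh (k := k) (H11Ample.isCoh_tensor hcF (h.setup.fam.inv _)), ← hh_bc k hcF _ (h.setup.fam.inv _) p (n := n),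
    ← van_iff_hh (k := K) (H11Ample.isCoh_tensor hcY (hY.setup.fam.inv _))]
  rcases Nat.lt_or_ge p 2 with hp2 | hp2
  · obtain rfl : p = 1 := by omega
    refine CMGen.van_one (k := K) hY.setup hY.ample hcY hG ?_
    rw [show CMGen.h1 K (OY k O n) (FY k n F) ((c : ℤ) - 1) = a 1 ((c : ℤ) - 1) from hA 1 _]
    push_cast
    omega
  · exact CMGen.van_two K hY.setup hY.ample hcY hG hp2 (by omega)

end Groth.Agent.H12Pic.Gen
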