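import Groth.Agent.H12Pic.Gen.VanNeg
import Groth.Agent.H12Pic.Gen.Recur
import Groth.Agent.H12Pic.Gen.Quad

/-!
# Universal bounds by recursion on the dimension

The bounds are polynomials in one number dominating the squares of the top three coefficients of
the Hilbert polynomial; they pass from the generic member to the scheme.
-/

set_option autoImplicit false
set_option linter.style.haveILetI false
set_option linter.unusedSectionVars false
set_option backward.isDefEq.respectTransparency.types false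
universe u

open CategoryTheory CategoryTheory.Limits AlgebraicGeometry TopologicalSpace Opposite
open Groth.Agent.H11Ample Groth.Agent.H22Alg Groth.Agent.H22Alg.CMField

noncomputable section

namespace Groth.Agent.H12Pic.Gen

/-- The cohomology bound and the regularity in dimension `s + 2`. -/
def HR {R : Type*} [CommSemiring R] (U : R) : ℕ → R × R
  | 0 => (6 * U + 2, 4 * U)
  | s + 1 => (((6 * U + 4) + (HR U s).2 + 2) * (HR U s).1,
      (HR U s).2 + ((6 * U + 4) + (HR U s).2 + 2) * (HR U s).1)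

theorem map_HR {R S : Type*} [CommSemiring R] [CommSemiring S] (f : R →+* S) (U : R) :
    ∀ s : ℕ, f (HR U s).1 = (HR (f U) s).1 ∧ f (HR U s).2 = (HR (f U) s).2
  | 0 => by simp [HR, map_ofNat]
  | s + 1 => by
    obtain ⟨h1, h2⟩ := map_HR f U s
    simp [HR, h1, h2, map_ofNat]

/-- Functions on the integers killed by `d + 1` differences. -/
def Pol : ℕ → (ℤ → ℤ) → Prop
  | 0, f => ∀ j, f j = f (j - 1)
  | d + 1, f => Pol d fun j => f j - f (j - 1)

theorem pol_formula : ∀ (d : ℕ) (f : ℤ → ℤ), Pol d f → ∀ (a : Fin (d + 1) → ℤ) (N : ℕ),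
    (∀ m : ℕ, N ≤ m → f m = ∑ j : Fin (d + 1), a j * ((m + j).choose j : ℤ)) →
    (∀ m : ℕ, f m = ∑ j : Fin (d + 1), a j * ((m + j).choose j : ℤ)) ∧ f (-1) = a 0
  | 0, f, hf, a, N, h => by
    have hall : ∀ m : ℕ, f m = f (-1) := fun m => by
      induction m with
      | zero => simpa using hf 0
      | succ m ih =>
        rw [← ih, hf, show ((m + 1 : ℕ) : ℤ) - 1 = (m : ℤ) by push_cast; ring]
    have hN := h N le_rfl
    rw [hall] at hN
    simp [Fin.sum_univ_one] at hN ⊢
    exact ⟨fun m => (hall m).trans hN, hN⟩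
  | d + 1, f, hf, a, N, h => by
    obtain ⟨hg, -⟩ := pol_formula d _ hf (fun j => a j.succ) (N + 1) fun m hm => by
      obtain ⟨m', rfl⟩ : ∃ m', m = m' + 1 := ⟨m - 1, by omega⟩
      rw [h _ (by omega), show ((m' + 1 : ℕ) : ℤ) - 1 = (m' : ℤ) by push_cast; ring, h _ (by omega)]
      exact sum_diff a m'
    have hall : ∀ r m : ℕ, N ≤ m + r → f m = ∑ j : Fin (d + 2), a j * ((m + j).choose j : ℤ) := fun r => by
      induction r with
      | zero => exact fun m hm => h m (by simpa using hm)
      | succ r ih =>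
        intro m hm
        have h1 := ih (m + 1) (by omega)
        have h2 := hg (m + 1)
        rw [← sum_diff a m, show ((m + 1 : ℕ) : ℤ) - 1 = (m : ℤ) by push_cast; ring] at h2
        linarith
    have hf0 := hall N 0 (by simp)
    have hg0 := hg 0
    refine ⟨fun m => hall N m (by omega), ?_⟩
    simp [Fin.sum_univ_succ (n := d + 1)] at hf0 hg0
    linarith

/-- The differences of the Hilbert function are given by the shifted coefficients. -/
theorem pol_diff {d : ℕ} {f : ℤ → ℤ} (hf : Pol (d + 1) f) {a : Fin (d + 2) → ℤ}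
    (h : ∀ m : ℕ, f m = ∑ j : Fin (d + 2), a j * ((m + j).choose j : ℤ)) (m : ℕ) :
    f m - f ((m : ℤ) - 1) = ∑ j : Fin (d + 1), a j.succ * ((m + j).choose j : ℤ) := by
  refine (pol_formula d (fun j => f j - f (j - 1)) hf (fun j => a j.succ) 1 fun m hm => ?_).1 m
  obtain ⟨m', rfl⟩ : ∃ m', m = m' + 1 := ⟨m - 1, by omega⟩
  rw [h, show ((m' + 1 : ℕ) : ℤ) - 1 = (m' : ℤ) by push_cast; ring, h]
  exact sum_diff a m'

section

variable (k : Type u) [Field k] {X : Scheme.{u}} [X.Over (Spec (CommRingCat.of k))]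
  [IsProper (X ↘ Spec (CommRingCat.of k))] {O : ℤ → X.Modules} {n : ℕ} {v : ℕ → Γ(O 1, ⊤)}

/-- Intersection numbers with twists are killed by differences. -/
theorem pol_D (h : Emb O n v) {d : ℕ} (hd : topologicalKrullDim X ≤ (d : WithBot ℕ∞)) {F : X.Modules}
    (hF : PicF.IsInvertible F) : ∀ (p : ℕ) (l : List X.Modules), (∀ A ∈ l, PicF.IsInvertible A) →
      d ≤ l.length + p → ∀ c s : ℤ, Pol p fun j => c * H28Int.D k l (CohB1.tensorMod F (O (j + s))) := by
  haveI := H28Int.isNoetherian k (X := X)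
  have hco : ∀ j, Coh.IsCoh (CohB1.tensorMod F (O j)) := fun j =>
    H11Ample.isCoh_of_isInvertible (H11Ample.isInvertible_tensor hF (h.setup.fam.inv j))
  have hstep : ∀ (l : List X.Modules), (∀ A ∈ l, PicF.IsInvertible A) → ∀ j : ℤ,
      H28Int.D k (O 1 :: l) (CohB1.tensorMod F (O (j - 1))) =
        H28Int.D k l (CohB1.tensorMod F (O (j - 1))) - H28Int.D k l (CohB1.tensorMod F (O j)) := by
    intro l hl j
    obtain ⟨e⟩ := h.setup.fam.add (j - 1) 1
    show _ - H28Int.D k l (CohB1.tensorMod (O 1) (CohB1.tensorMod F (O (j - 1)))) = _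
    rw [(H28Int.isAddFn_D k l hl).congr (H10Coh.Tw.commIso _ _ ≪≫ H10Coh.Tw.assoc _ _ _ ≪≫
      PicGrp.tensorModIso (Iso.refl F) (e ≪≫ eqToIso (congrArg O (show j - 1 + 1 = j by ring))))]
  intro p
  induction p with
  | zero =>
    intro l hl hle c s j
    have h1 := hstep l hl (j + s)
    rw [H28Int.D_eq_zero k (O 1 :: l) (List.forall_mem_cons.2 ⟨h.setup.fam.inv 1, hl⟩) _ (hco _)
      (((Topology.IsInducing.subtypeVal.topologicalKrullDim_le).trans hd).trans_lt
        (by rw [List.length_cons]; exact_mod_cast Nat.lt_succ_of_le (by simpa using hle)))] at h1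
    show c * _ = c * H28Int.D k l (CohB1.tensorMod F (O (j - 1 + s)))
    rw [show j - 1 + s = j + s - 1 by ring]
    congr 1
    linarith
  | succ p ih =>
    intro l hl hle c s
    show Pol p _
    convert ih (O 1 :: l) (List.forall_mem_cons.2 ⟨h.setup.fam.inv 1, hl⟩)
      (by rw [List.length_cons]; omega) (-c) (s - 1) using 1
    funext j
    dsimp only
    rw [show j + (s - 1) = j + s - 1 by ring, hstep l hl, show j - 1 + s = j + s - 1 by ring]
    ring

/-- The Euler characteristic of the twists is a polynomial of degree at most the dimension. -/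
theorem pol_chi (h : Emb O n v) {d : ℕ} (hd : topologicalKrullDim X ≤ (d : WithBot ℕ∞)) {F : X.Modules}
    (hF : PicF.IsInvertible F) : Pol d (chi k O F) := by
  convert pol_D k h hd hF d [] (by simp) (by simp) 1 0 using 1
  funext j
  rw [one_mul, add_zero]
  rfl

/-- No sections in negative twists of a module of nonpositive degree. -/
theorem hh_zero_neg [IsIntegral X] (h : Emb O n v) {s : ℕ}
    (hd : topologicalKrullDim X = ((s + 2 : ℕ) : WithBot ℕ∞)) {F : X.Modules} (hF : PicF.IsInvertible F)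
    (hdeg : NefQ.Q k (F :: List.replicate (s + 1) (O 1)) (Coh.structureModule X) ≤ 0) {j : ℤ} (hj : j ≤ -1) :
    hh k (CohB1.tensorMod F (O j)) 0 = 0 := by
  haveI := H28Int.isNoetherian k (X := X)
  obtain ⟨t, ht, rfl⟩ : ∃ t : ℕ, 1 ≤ t ∧ j = -(t : ℤ) := ⟨(-j).toNat, by omega, by omega⟩
  let M := CohB1.tensorMod F (O (-(t : ℤ)))
  have hM : PicF.IsInvertible M := H11Ample.isInvertible_tensor hF (h.setup.fam.inv _)
  haveI : Subsingleton (Coh.HH X M 0) := by
    refine subsingleton_of_forall_eq 0 fun x => ?_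
    by_contra hx
    have hg : H29RR.sec M x ≠ 0 := fun h0 => hx ((H29RR.sec M).injective (h0.trans (map_zero _).symm))
    have h1 := Hodge.Q_nonneg_of_section k h.ample hM hg (r := s + 1) hd.le
    have htop := Nakai.top_pos k h.ample.1 (Nakai.pos_of_isAmple k h.ample) (d := s + 2) (by omega) hd
    have hl : ∀ r : ℕ, ∀ A ∈ List.replicate r (O 1), PicF.IsInvertible A := fun r A hA =>
      List.eq_of_mem_replicate hA ▸ h.setup.fam.inv 1
    have hS := H10Coh.isCoh_structureModule' X
    have hds : topologicalKrullDim (CohB1.support (Coh.structureModule X)) ≤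
        (((List.replicate (s + 1) (O 1)).length + 1 : ℕ) : WithBot ℕ∞) :=
      ((Topology.IsInducing.subtypeVal.topologicalKrullDim_le).trans hd.le).trans_eq (by rw [List.length_replicate])
    obtain ⟨e1⟩ := h.setup.fam.nonempty_tensorPow t
    obtain ⟨e2⟩ := h.setup.fam.add (-(t : ℤ)) t
    obtain ⟨z⟩ := h.setup.fam.zero
    let e : CohB1.tensorMod M (CohB1.tensorPow (O 1) t) ≅ F :=
      H10Coh.Tw.assoc _ _ _ ≪≫ PicGrp.tensorModIso (Iso.refl F)
        (PicGrp.tensorModIso (Iso.refl _) e1 ≪≫ e2 ≪≫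
          eqToIso (congrArg O (show -(t : ℤ) + t = 0 by ring)) ≪≫ z) ≪≫ H10Coh.Tw.rightUnitIso F
    have hadd := NefQ.Q_cons_tensor k (hl (s + 1)) hM
      (H11Ample.isInvertible_tensorPow (h.setup.fam.inv 1) t) hS hds
    rw [NefQ.Q_cons_pow k (hl (s + 1)) (h.setup.fam.inv 1) hS hds t] at hadd
    have hc : NefQ.Q k (CohB1.tensorMod M (CohB1.tensorPow (O 1) t) :: List.replicate (s + 1) (O 1))
        (Coh.structureModule X) = NefQ.Q k (F :: List.replicate (s + 1) (O 1)) (Coh.structureModule X) := by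
      simp only [NefQ.Q, List.length_cons, H28Int.D]
      rw [(H28Int.isAddFn_D k _ (hl (s + 1))).congr (PicGrp.tensorModIso e (Iso.refl (Coh.structureModule X)))]
    rw [hc] at hadd
    have htop' : 0 < NefQ.Q k (O 1 :: List.replicate (s + 1) (O 1)) (Coh.structureModule X) := by
      simpa only [NefQ.Q, ← List.replicate_succ, List.length_replicate] using htop
    have : (1 : ℤ) * NefQ.Q k (O 1 :: List.replicate (s + 1) (O 1)) (Coh.structureModule X) ≤
        (t : ℤ) * NefQ.Q k (O 1 :: List.replicate (s + 1) (O 1)) (Coh.structureModule X) :=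
      mul_le_mul_of_nonneg_right (by exact_mod_cast ht) htop'.le
    linarith
  exact Module.finrank_zero_of_subsingleton

/-- The inequalities of the sequence of a hyperplane section. -/
theorem cut_ineq (h : Emb O n v) {Z : Scheme.{u}} [Z.Over (Spec (CommRingCat.of (KM k (Idx n))))]
    {i : Z ⟶ XM k (Idx n) X} {F : X.Modules} (hF : PicF.IsInvertible F)
    {φ : CohB1.tensorMod (FY k n F) (OY k O n (-1)) ⟶ FY k n F} [Mono φ] (hcoh : Coh.IsCoh (cokernel φ))
    (hhh : ∀ j p, hh (KM k (Idx n)) (CohB1.tensorMod (cokernel φ) (OY k O n j)) p =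
      hh (KM k (Idx n)) (CohB1.tensorMod ((Scheme.Modules.pullback i).obj (FY k n F))
        ((Scheme.Modules.pullback i).obj (OY k O n j))) p) (j : ℤ) (p : ℕ) :
    hh k (CohB1.tensorMod F (O j)) p ≤ hh k (CohB1.tensorMod F (O (j - 1))) p +
        hh (KM k (Idx n)) (CohB1.tensorMod ((Scheme.Modules.pullback i).obj (FY k n F))
          ((Scheme.Modules.pullback i).obj (OY k O n j))) p ∧
      hh k (CohB1.tensorMod F (O (j - 1))) (p + 1) ≤
        hh (KM k (Idx n)) (CohB1.tensorMod ((Scheme.Modules.pullback i).obj (FY k n F))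
          ((Scheme.Modules.pullback i).obj (OY k O n j))) p + hh k (CohB1.tensorMod F (O j)) (p + 1) := by
  have hY := h.pullback (qM k (Idx n) X)
  have hcY : Coh.IsCoh (FY k n F) := H11Ample.isCoh_of_isInvertible (isInvertible_pullback _ hF)
  have hA : ∀ a q, hh (KM k (Idx n)) (CohB1.tensorMod (FY k n F) (OY k O n a)) q =
      hh k (CohB1.tensorMod F (O a)) q := fun a q =>
    hh_bc k (H11Ample.isCoh_of_isInvertible hF) a (h.setup.fam.inv a) q
  haveI := H28Int.isNoetherian (KM k (Idx n)) (X := XM k (Idx n) X)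
  obtain ⟨f, z, hS⟩ := CMGen.seq_shortExact hY.setup (ι := φ) j
  have h1 := hh_mid_le (k := KM k (Idx n)) hS (H11Ample.isCoh_tensor hcY (hY.setup.fam.inv _))
    (H11Ample.isCoh_tensor hcY (hY.setup.fam.inv _)) (H11Ample.isCoh_tensor hcoh (hY.setup.fam.inv _)) p
  have h2 := hh_first_le (k := KM k (Idx n)) hS (H11Ample.isCoh_tensor hcY (hY.setup.fam.inv _))
    (H11Ample.isCoh_tensor hcY (hY.setup.fam.inv _)) (H11Ample.isCoh_tensor hcoh (hY.setup.fam.inv _)) p
  exact ⟨(hA _ _).ge.trans (h1.trans (le_of_eq (congrArg₂ (· + ·) (hA _ _) (hhh j p)))),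
    (hA _ _).ge.trans (h2.trans (le_of_eq (congrArg₂ (· + ·) (hhh j p) (hA _ _))))⟩

/-- The Euler characteristic in a twist without sections is bounded by the higher cohomology. -/
theorem abs_euler_le {d : ℕ} (hd : topologicalKrullDim X ≤ (d : WithBot ℕ∞)) {M : X.Modules}
    (hM : Coh.IsQCoh M) (h0 : hh k M 0 = 0) {H : ℕ} (hH : ∀ p, 1 ≤ p → hh k M p ≤ H) :
    |Curv2.euler k X M| ≤ ((d * H : ℕ) : ℤ) := by
  rw [show Curv2.euler k X M = ∑ p ∈ Finset.range (d + 1), (-1 : ℤ) ^ p * (hh k M p : ℤ) from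
    finsum_eq_sum_of_support_subset _ fun p hp => ?_]
  · refine (Finset.abs_sum_le_sum_abs _ _).trans ?_
    rw [Finset.sum_range_succ', h0]
    simp only [Nat.cast_zero, mul_zero, abs_zero, add_zero, abs_mul, abs_pow, abs_neg, abs_one, one_pow,
      one_mul, Nat.abs_cast]
    calc ∑ p ∈ Finset.range d, (hh k M (p + 1) : ℤ) ≤ ∑ _p ∈ Finset.range d, (H : ℤ) :=
          Finset.sum_le_sum fun p _ => by exact_mod_cast hH (p + 1) (by omega)
      _ = _ := by simp
  · rw [Finset.coe_range, Set.mem_Iio]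
    by_contra hle
    exact hp (by simp [show Module.finrank k (Coh.HH X M p) = 0 from hh_high k hd hM (by omega)])

end

/-- The universal bounds for a module of nonpositive degree on a normal integral scheme. -/
theorem univ_bounds : ∀ (s : ℕ) (k : Type u) [Field k] (X : Scheme.{u}) [X.Over (Spec (CommRingCat.of k))]
    [IsProper (X ↘ Spec (CommRingCat.of k))] [IsIntegral X] (O : ℤ → X.Modules) (n : ℕ) (v : ℕ → Γ(O 1, ⊤)),
    Emb O n v → Pi1.IsNormalScheme X → topologicalKrullDim X = ((s + 2 : ℕ) : WithBot ℕ∞) →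
    ∀ F : X.Modules, PicF.IsInvertible F →
      NefQ.Q k (F :: List.replicate (s + 1) (O 1)) (Coh.structureModule X) ≤ 0 →
      ∀ (a : Fin (s + 3) → ℤ), (∀ m : ℕ, chi k O F m = ∑ j : Fin (s + 3), a j * ((m + j).choose j : ℤ)) →
        ∀ U : ℕ, (∀ j : Fin (s + 3), s ≤ (j : ℕ) → a j ^ 2 ≤ (U : ℤ)) →
          (∀ j : ℤ, j ≤ -(6 * (U : ℤ) + 4) → hh k (CohB1.tensorMod F (O j)) 1 = 0) ∧
          (∀ j p, 1 ≤ p → (p = 1 ∨ -1 ≤ j) → hh k (CohB1.tensorMod F (O j)) p ≤ (HR U s).1) ∧
          Reg O F ((HR U s).2 : ℕ) ∧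
          (∀ j : Fin (s + 3), |a j| ≤ ((U + (s + 2 - j) * (HR U (s - j)).1 : ℕ) : ℤ)) := by
  intro s
  induction s with
  | zero =>
    intro k _ X _ _ _ O n v h hN hd F hF hdeg a ha U hU
    haveI := H28Int.isNoetherian k (X := X)
    have hcF : Coh.IsCoh F := H11Ample.isCoh_of_isInvertible hF
    have hO : PicF.IsInvertible (Coh.structureModule X) := fun y => ⟨⊤, trivial, ⟨Scheme.Modules.restrictUnitIso _⟩⟩
    obtain ⟨z⟩ := h.setup.fam.zero
    have hp := pol_chi k h hd.le hF
    obtain ⟨-, hm1⟩ := pol_formula 2 _ hp a 0 fun m _ => ha m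
    obtain ⟨-, hm2⟩ := pol_formula 1 (fun j => chi k O F j - chi k O F (j - 1)) hp (fun j => a j.succ) 0
      fun m _ => pol_diff hp ha m
    simp only [show (-1 : ℤ) - 1 = -2 by ring, Fin.succ_zero_eq_one] at hm2
    have hneg : chi k O F 0 - chi k O F (-1) ≤
        chi k O (Coh.structureModule X) 0 - chi k O (Coh.structureModule X) (-1) := by
      simp only [zero_add, List.replicate_one, NefQ.Q, List.length_cons, List.length_nil, D_two] at hdeg
      obtain ⟨h3, h4⟩ := chi_quad k h hd.le hF 1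
      obtain ⟨h5, h6⟩ := chi_quad k h hd.le hO 1
      have c0 : Curv2.euler k X F = chi k O F 0 :=
        H25Euler.euler_congr ((H10Coh.Tw.rightUnitIso F).symm ≪≫ PicGrp.tensorModIso (Iso.refl F) z.symm)
      have c1 : Curv2.euler k X (Coh.structureModule X) = chi k O (Coh.structureModule X) 0 :=
        (H25Euler.euler_congr z.symm).trans (chi_structure k 0).symm
      have c2 := chi_structure (X := X) k (O := O) 1
      change (-1 : ℤ) ^ 2 * (_ - _ - _ + chi k O F 1) ≤ 0 at hdeg
      norm_num at hdeg h4 h6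
      linarith
    obtain ⟨c, hc, -, hall, hreg⟩ := surface_bounds k h hd hF hneg
    rw [hm1] at hall hreg
    have hc' : (c : ℤ) = -a 1 := by rw [hc]; linarith
    have b0 := hU 0 (Nat.zero_le _)
    have b1 := hU 1 (Nat.zero_le _)
    have e0 : |a 0| ≤ (U : ℤ) := le_trans (by rw [← sq_abs]; exact Int.le_self_sq _) b0
    have e0' := abs_le.1 e0
    have hcU : (c : ℤ) * (c : ℤ) ≤ U := by rw [hc', neg_mul_neg, ← pow_two]; exact b1
    have hcc : (c : ℤ) ≤ (c : ℤ) * (c : ℤ) := by exact_mod_cast Nat.le_mul_self c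
    have hP : ∀ j, hh k (CohB1.tensorMod F (O j)) 1 ≤ 2 * U := fun j => by
      have := hall j
      have : (hh k (CohB1.tensorMod F (O j)) 1 : ℤ) ≤ 2 * U := by linarith
      exact_mod_cast this
    have h0 : hh k (CohB1.tensorMod F (O (-1))) 0 = 0 := hh_zero_neg k h hd hF hdeg le_rfl
    refine ⟨fun j hj => van_neg k h hN (d := 0) hd hF (fun j _ => hP j) h0 (by push_cast; omega), ?_, ?_, ?_⟩
    · intro j p hp hj
      show _ ≤ 6 * U + 2
      obtain ⟨Z, _, _, _, i, _, w, hi, hdZ, hZ, -, hseq⟩ := exists_cut k h (r := 1) hd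
      obtain ⟨φ, hφ, hcoh, hhh, -⟩ := hseq F hF
      rcases Nat.lt_or_ge p 2 with hp2 | hp2
      · obtain rfl : p = 1 := by omega
        exact (hP j).trans (by omega)
      · rcases hp2.eq_or_lt with rfl | hp3
        · have hj' : -1 ≤ j := by rcases hj with h1 | h1; exacts [absurd h1 (by norm_num), h1]
          have hm : hh k (CohB1.tensorMod F (O (-1))) 2 ≤ 3 * U := by
            have h2 := euler_two k hd.le (H11Ample.isCoh_tensor hcF (h.setup.fam.inv (-1))).1
            change chi k O F (-1) = _ at h2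
            rw [hm1, h0] at h2
            have := hP (-1)
            push_cast at h2
            omega
          obtain ⟨t, rfl⟩ : ∃ t : ℕ, j = -1 + t := ⟨(j + 1).toNat, by omega⟩
          clear hj hj'
          induction t with
          | zero => rw [Nat.cast_zero, add_zero]; exact hm.trans (by omega)
          | succ t ih =>
            have h1 := (cut_ineq k h hF hcoh hhh (-1 + ((t + 1 : ℕ) : ℤ)) 2).1
            rw [show -1 + ((t + 1 : ℕ) : ℤ) - 1 = -1 + (t : ℤ) by push_cast; ring,
              hh_high (KM k (Idx n)) hdZ.le (H11Ample.isCoh_of_isInvertible (isInvertible_tensor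
                (isInvertible_pullback i (isInvertible_pullback _ hF)) (hZ.setup.fam.inv _))).1 one_lt_two,
              add_zero] at h1
            exact h1.trans ih
        · rw [hh_high k hd.le (H11Ample.isCoh_tensor hcF (h.setup.fam.inv j)).1 hp3]
          exact Nat.zero_le _
    · show Reg O F ((4 * U : ℕ) : ℤ)
      obtain ⟨t, ht⟩ := Int.le.dest (show (c : ℤ) + ((c : ℤ) * ((c : ℤ) - 1) - a 0) ≤ ((4 * U : ℕ) : ℤ) by
        push_cast; linarith)
      rw [← ht]
      exact reg_add h.setup hreg t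
    · intro j
      have h1 : |a j| ≤ (U : ℤ) := le_trans (by rw [← sq_abs]; exact Int.le_self_sq _) (hU j (Nat.zero_le _))
      exact h1.trans (by exact_mod_cast Nat.le_add_right _ _)
  | succ s ih =>
    intro k _ X _ _ _ O n v h hN hd F hF hdeg a ha U hU
    obtain ⟨Z, iO, iP, iI, i, iC, w, hi, hdZ, hZ, hnorm, hseq⟩ := exists_cut k h (r := s + 2) (hd.trans rfl)
    haveI := H28Int.isNoetherian k (X := X)
    let K := KM k (Idx n)
    let q := qM k (Idx n) X
    let OZ : ℤ → Z.Modules := fun b => (Scheme.Modules.pullback i).obj (OY k O n b)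
    let G := (Scheme.Modules.pullback i).obj (FY k n F)
    have hG : PicF.IsInvertible G := isInvertible_pullback i (isInvertible_pullback q hF)
    have hO : PicF.IsInvertible (Coh.structureModule X) := fun y => ⟨⊤, trivial, ⟨Scheme.Modules.restrictUnitIso _⟩⟩
    obtain ⟨φ0, hφ0, -, -, -, ⟨e0⟩⟩ := hseq _ hO
    obtain ⟨φ, hφ, hcoh, hhh, heu, -⟩ := hseq F hF
    have hY := h.pullback q
    haveI := H28Int.isNoetherian K (X := XM k (Idx n) X)
    have hcF : Coh.IsCoh F := H11Ample.isCoh_of_isInvertible hF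
    have hcY : Coh.IsCoh (FY k n F) := H11Ample.isCoh_of_isInvertible (isInvertible_pullback q hF)
    have hHl : ∀ A ∈ List.replicate (s + 1) (O 1), PicF.IsInvertible A := fun A hA =>
      List.eq_of_mem_replicate hA ▸ h.setup.fam.inv 1
    -- the degree on the member
    have hdegZ : NefQ.Q K (G :: List.replicate (s + 1) (OZ 1)) (Coh.structureModule Z) ≤ 0 := by
      have c1 := Q_cut k h i hi e0 (F :: List.replicate (s + 1) (O 1)) (List.forall_mem_cons.2 ⟨hF, hHl⟩)
        (hdZ.le.trans_eq (congrArg (fun j : ℕ => (j : WithBot ℕ∞)) (by simp)))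
      simp only [List.map_cons, List.map_replicate] at c1
      rw [← c1, NefQ.Q_perm k (List.Perm.swap F (O 1) _)
        (List.forall_mem_cons.2 ⟨h.setup.fam.inv 1, List.forall_mem_cons.2 ⟨hF, hHl⟩⟩)]
      exact hdeg
    -- its Hilbert polynomial
    have hp := pol_chi k h hd.le hF
    have haZ : ∀ m : ℕ, chi K OZ G m = ∑ j : Fin (s + 3), a j.succ * ((m + j).choose j : ℤ) := fun m => by
      rw [← pol_diff hp ha m]
      obtain ⟨f, zz, hS⟩ := CMGen.seq_shortExact hY.setup (ι := φ) (m : ℤ)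
      have h4 := H25Euler.euler_add (k := K) hS (H11Ample.isCoh_tensor hcY (hY.setup.fam.inv _))
        (H11Ample.isCoh_tensor hcY (hY.setup.fam.inv _)) (H11Ample.isCoh_tensor hcoh (hY.setup.fam.inv _))
      have hbc := fun b => euler_bc k hcF b (h.setup.fam.inv b) (n := n) (O := O)
      exact (sub_eq_of_eq_add' (((hbc m).symm.trans h4).trans (congrArg₂ (· + ·) (hbc _) (heu m)))).symm
    obtain ⟨hA, hB, hR, hD⟩ := ih K Z OZ n w hZ (hnorm hN) hdZ G hG hdegZ _ haZ U fun j hj =>
      hU j.succ (by rw [Fin.val_succ]; omega)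
    have hG0 : ∀ j : ℤ, j ≤ -1 → hh K (CohB1.tensorMod G (OZ j)) 0 = 0 := fun j =>
      hh_zero_neg K hZ hdZ hG hdegZ
    let a1 : ℤ → ℕ := fun j => hh k (CohB1.tensorMod F (O j)) 1
    let m0 : ℕ := 6 * U + 4
    let H := (HR U s).1
    let R := (HR U s).2
    have hineq := cut_ineq k h hF hcoh hhh
    -- vanishing in very negative twists
    have hinc : ∀ t : ℕ, a1 (-1 - (t : ℤ)) ≤ a1 (-1) := fun t => by
      induction t with
      | zero => simp
      | succ t ih =>
        have h1 := (hineq (-1 - (t : ℤ)) 0).2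
        rw [hG0 _ (by omega), show -1 - (t : ℤ) - 1 = -1 - ((t + 1 : ℕ) : ℤ) by push_cast; ring] at h1
        exact (h1.trans_eq (zero_add _)).trans ih
    have hP : ∀ j : ℤ, j ≤ -1 → a1 j ≤ a1 (-1) := fun j hj => by
      obtain ⟨t, rfl⟩ : ∃ t : ℕ, j = -1 - t := ⟨(-1 - j).toNat, by omega⟩
      exact hinc t
    have h0 := hh_zero_neg k h hd hF hdeg (le_refl (-1))
    have hconst : ∀ (t : ℕ) (j : ℤ), j ≤ -(m0 : ℤ) → a1 j ≤ a1 (j - t) := fun t => by
      induction t with
      | zero => simp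
      | succ t ih =>
        intro j hj
        have h1 := (hineq (j - t) 1).1
        rw [hA _ (by simp only [m0] at hj; push_cast at hj; omega), add_zero,
          show j - (t : ℤ) - 1 = j - ((t + 1 : ℕ) : ℤ) by push_cast; ring] at h1
        exact (ih j hj).trans h1
    have hvan : ∀ j : ℤ, j ≤ -(6 * (U : ℤ) + 4) → a1 j = 0 := fun j hj => by
      have h1 := hconst (2 * a1 (-1) + 2) j (by simp only [m0]; push_cast; omega)
      have h2 : a1 (j - ((2 * a1 (-1) + 2 : ℕ) : ℤ)) = 0 :=
        van_neg k h hN (d := s + 1) hd hF hP h0 (by push_cast; omega)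
      omega
    -- regularity of the member
    have hG' : Reg (OY k O n) (cokernel φ) (R : ℤ) := fun p hp1 => by
      rw [van_iff_hh (k := K) (H11Ample.isCoh_tensor hcoh (hY.setup.fam.inv _)), hhh]
      exact (van_iff_hh (k := K) (H11Ample.isCoh_of_isInvertible
        (isInvertible_tensor hG (hZ.setup.fam.inv _))) p).1 (hR p hp1)
    have hA1 : ∀ j, CMGen.h1 K (OY k O n) (FY k n F) j = a1 j := fun j => hh_bc k hcF j (h.setup.fam.inv j) 1
    -- the bound on the first cohomology
    have hup : ∀ t : ℕ, a1 (-(m0 : ℤ) + t) ≤ t * H := fun t => by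
      induction t with
      | zero => simp [hvan (-(m0 : ℤ)) (by simp [m0])]
      | succ t ih =>
        have h1 := (hineq (-(m0 : ℤ) + ((t + 1 : ℕ) : ℤ)) 1).1
        rw [show -(m0 : ℤ) + ((t + 1 : ℕ) : ℤ) - 1 = -(m0 : ℤ) + (t : ℤ) by push_cast; ring] at h1
        have h2 := hB (-(m0 : ℤ) + ((t + 1 : ℕ) : ℤ)) 1 le_rfl (Or.inl rfl)
        rw [Nat.succ_mul]
        exact h1.trans (add_le_add ih h2)
    have hdown : ∀ t : ℕ, a1 ((R : ℤ) - 1 + t) ≤ a1 ((R : ℤ) - 1) := fun t => by
      induction t with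
      | zero => simp
      | succ t ih =>
        have h1 := (CMGen.h1_step (k := K) hY.setup hY.ample hcY hG'
          (j := (R : ℤ) - 1 + ((t + 1 : ℕ) : ℤ)) (by omega)).1
        rw [hA1, hA1, show (R : ℤ) - 1 + ((t + 1 : ℕ) : ℤ) - 1 = (R : ℤ) - 1 + (t : ℤ) by push_cast; ring] at h1
        exact h1.trans ih
    have hb1 : ∀ j : ℤ, a1 j ≤ (m0 + R) * H := fun j => by
      have hmain : ∀ j : ℤ, j ≤ R → a1 j ≤ (m0 + R) * H := fun j hj => by
        rcases le_total j (-(m0 : ℤ)) with hj' | hj'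
        · rw [hvan j (by simp only [m0] at hj'; push_cast at hj'; omega)]; exact Nat.zero_le _
        · obtain ⟨t, rfl⟩ : ∃ t : ℕ, j = -(m0 : ℤ) + t := ⟨(j + m0).toNat, by omega⟩
          exact (hup t).trans (Nat.mul_le_mul_right H (by omega))
      rcases le_total j R with hj | hj
      · exact hmain j hj
      · obtain ⟨t, rfl⟩ : ∃ t : ℕ, j = (R : ℤ) - 1 + t := ⟨(j - R + 1).toNat, by omega⟩
        exact (hdown t).trans (hmain _ (by omega))
    have hbig : ∀ p : ℕ, 2 ≤ p → ∀ j : ℤ, (R : ℤ) - p ≤ j → hh k (CohB1.tensorMod F (O j)) p = 0 := fun p hp2 j hj => by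
      rw [← hh_bc k hcF j (h.setup.fam.inv j) p (n := n)]
      exact (van_iff_hh (k := K) (H11Ample.isCoh_tensor hcY (hY.setup.fam.inv j)) p).1
        (CMGen.van_two K hY.setup hY.ample hcY hG' hp2 hj)
    have hbp : ∀ p : ℕ, 2 ≤ p → ∀ (t : ℕ) (j : ℤ), -1 ≤ j → (R : ℤ) ≤ j + t →
        hh k (CohB1.tensorMod F (O j)) p ≤ t * H := fun p hp2 t => by
      induction t with
      | zero => intro j _ hj'; rw [hbig p hp2 j (by push_cast at hj'; omega)]; exact Nat.zero_le _
      | succ t ih =>
        intro j hj hj'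
        obtain ⟨q, rfl⟩ : ∃ q, p = q + 1 := ⟨p - 1, by omega⟩
        have h1 := (hineq (j + 1) q).2
        rw [add_sub_cancel_right] at h1
        have h2 := hB (j + 1) q (by omega) (Or.inr (by omega))
        have h3 := ih (j + 1) (by omega) (by push_cast at hj'; omega)
        rw [Nat.succ_mul, add_comm (t * H) H]
        exact h1.trans (add_le_add h2 h3)
    have hB' : ∀ j p, 1 ≤ p → (p = 1 ∨ -1 ≤ j) →
        hh k (CohB1.tensorMod F (O j)) p ≤ (m0 + R + 2) * H := fun j p hp hj => by
      rcases Nat.lt_or_ge p 2 with hp2 | hp2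
      · obtain rfl : p = 1 := by omega
        exact (hb1 j).trans (Nat.mul_le_mul_right H (by omega))
      · exact (hbp p hp2 (R + 1) j (hj.resolve_left (by omega))
          (by have := hj.resolve_left (show ¬ p = 1 by omega); push_cast; omega)).trans
            (Nat.mul_le_mul_right H (by omega))
    refine ⟨hvan, fun j p hp hj => (hB' j p hp hj).trans_eq rfl, fun p hp => ?_, fun j => ?_⟩
    · show Van p (CohB1.tensorMod F (O (((R + (m0 + R + 2) * H : ℕ) : ℤ) - p)))
      rw [van_iff_hh (k := k) (H11Ample.isCoh_tensor hcF (h.setup.fam.inv _)),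
        ← hh_bc k hcF _ (h.setup.fam.inv _) p (n := n),
        ← van_iff_hh (k := K) (H11Ample.isCoh_tensor hcY (hY.setup.fam.inv _))]
      rcases Nat.lt_or_ge p 2 with hp2 | hp2
      · obtain rfl : p = 1 := by omega
        refine CMGen.van_one (k := K) hY.setup hY.ample hcY hG' ?_
        rw [hA1]
        have := hB' ((R : ℤ) - 1) 1 le_rfl (Or.inl rfl)
        change a1 ((R : ℤ) - 1) ≤ _ at this
        generalize (m0 + R + 2) * H = H' at this ⊢
        push_cast
        omega
      · exact CMGen.van_two K hY.setup hY.ample hcY hG' hp2 (by omega)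
    · cases j using Fin.cases with
      | zero =>
        obtain ⟨-, hm1⟩ := pol_formula (s + 3) _ hp a 0 fun m _ => ha m
        rw [← hm1]
        refine (abs_euler_le k hd.le (H11Ample.isCoh_tensor hcF (h.setup.fam.inv (-1))).1 h0
          (fun p hp => hB' (-1) p hp (Or.inr le_rfl))).trans ?_
        exact Int.ofNat_le.2 (Nat.le_add_left _ _)
      | succ j =>
        refine (hD j).trans (le_of_eq ?_)
        rw [Fin.val_succ, show s + 1 + 2 - ((j : ℕ) + 1) = s + 2 - j by omega,
          show s + 1 - ((j : ℕ) + 1) = s - j by omega]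

end Groth.Agent.H12Pic.Gen
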