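import Groth.Agent.H12Pic.Gen.Ratio
import Groth.Agent.H29CurveDual.HomK

/-!
# Vanishing of the first cohomology in very negative twists on a normal scheme
-/

set_option autoImplicit false
set_option linter.style.haveILetI false
set_option linter.unusedSectionVars false
set_option backward.isDefEq.respectTransparency.types false
universe u

open CategoryTheory CategoryTheory.Limits AlgebraicGeometry TopologicalSpace Opposite
open Groth.Agent.H11Ample Groth.Agent.H11Tilde Groth.Agent.H22Alg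
open Groth.Agent.H29CurveDual (scal scal_app twist_scal hhlin_scal)
attribute [local instance 10000] Groth.Agent.H10Coh.hasSheafifyAb Groth.Agent.H10Coh.hasWeakSheafifyAb Groth.Agent.H10Coh.hasExtAb Groth.Agent.H10Coh.enoughInjAb

noncomputable section

namespace Groth.Agent.H12Pic.Gen

/-- Monomials in two sections. -/
def mon {X : Scheme.{u}} {L : X.Modules} (a b : Γ(L, ⊤)) : ∀ t : ℕ, ℕ → Γ(CohB1.tensorPow L t, ⊤)
  | 0, _ => (1 : Γ(X, ⊤))
  | t + 1, i => tm (mon a b t (min i t)) (if i ≤ t then a else b)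

variable (k : Type u) [Field k] {X : Scheme.{u}} [X.Over (Spec (CommRingCat.of k))]

theorem mon_res {L : X.Modules} {a b : Γ(L, ⊤)} {V : X.Opens} {f : Γ(X, V)}
    (hb : L.presheaf.map (homOfLE (le_top : V ≤ ⊤)).op b = f • L.presheaf.map (homOfLE (le_top : V ≤ ⊤)).op a) :
    ∀ t i : ℕ, i ≤ t → (CohB1.tensorPow L t).presheaf.map (homOfLE (le_top : V ≤ ⊤)).op (mon a b t i) =
      f ^ i • spow (L.presheaf.map (homOfLE (le_top : V ≤ ⊤)).op a) t
  | 0, i, hi => by
    obtain rfl : i = 0 := by omega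
    rw [pow_zero]
    refine Eq.trans ?_ (one_smul Γ(X, V) _).symm
    exact map_one (X.presheaf.map (homOfLE (le_top : V ≤ ⊤)).op).hom
  | t + 1, i, hi => by
    show (CohB1.tensorMod (CohB1.tensorPow L t) L).presheaf.map (homOfLE (le_top : V ≤ ⊤)).op (tm _ _) = _ • tm _ _
    rw [tm_res, mon_res hb t (min i t) (min_le_right i t)]
    rcases Nat.lt_or_ge t i with hlt | hge
    · rw [if_neg (Nat.not_le.2 hlt), hb, tm_smul_left, tm_smul_right, smul_smul, Nat.min_eq_right hlt.le, ← pow_succ,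
        show i = t + 1 by omega]
      rfl
    · rw [if_pos hge, tm_smul_left, Nat.min_eq_left hge]
      rfl

/-- The combination of monomials with given coefficients. -/
def comb' {L : X.Modules} (a b : Γ(L, ⊤)) {t : ℕ} (c : Fin (t + 1) → k) : Γ(CohB1.tensorPow L t, ⊤) :=
  ∑ i : Fin (t + 1), (H10Coh.globA (A := k) (X := X) (c i)) • mon a b t i

theorem mem_gen_comb {L : X.Modules} {a b : Γ(L, ⊤)} {f : Γ(X, gen L a)} {ξ : X} (hξ : ξ ∈ gen L a)
    (hb : L.presheaf.map (homOfLE (le_top : gen L a ≤ ⊤)).op b = f • L.presheaf.map (homOfLE (le_top : gen L a ≤ ⊤)).op a)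
    (htr : ∀ p : Polynomial k, p ≠ 0 → ξ ∈ X.basicOpen (p.eval₂ (scalOn k (gen L a)) f))
    {t : ℕ} {c : Fin (t + 1) → k} (hc : c ≠ 0) : ξ ∈ gen (CohB1.tensorPow L t) (comb' k a b c) := by
  classical
  let p : Polynomial k := ∑ i : Fin (t + 1), Polynomial.monomial (i : ℕ) (c i)
  have hp : p ≠ 0 := fun h0 => hc (funext fun i => by
    have h1 := congrArg (Polynomial.coeff · i) h0
    simp only [p, Polynomial.finset_sum_coeff, Polynomial.coeff_monomial, Polynomial.coeff_zero] at h1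
    rw [Finset.sum_eq_single i (fun j _ hj => if_neg fun e => hj (Fin.ext e)) (by simp), if_pos rfl] at h1
    exact h1)
  have he := isGen_spow (isGen_gen (L := L) a) t
  refine ((gen_inf_eq_basicOpen he (comb' k a b c) (p.eval₂ (scalOn k (gen L a)) f) ?_).ge (htr p hp)).1
  rw [comb', map_sum, show p.eval₂ (scalOn k (gen L a)) f =
      ∑ i : Fin (t + 1), scalOn k (gen L a) (c i) * f ^ (i : ℕ) by
    rw [Polynomial.eval₂_finset_sum]
    exact Finset.sum_congr rfl fun i _ => Polynomial.eval₂_monomial _ _, Finset.sum_smul]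
  refine Finset.sum_congr rfl fun i _ => ?_
  rw [Scheme.Modules.map_smul, mon_res hb t i (Nat.lt_succ_iff.1 i.2), smul_smul]
  rfl

variable [IsProper (X ↘ Spec (CommRingCat.of k))]

theorem homOfGlobal_sum {ι : Type*} (s : Finset ι) (M : X.Modules) (c : ι → k) (g : ι → Γ(M, ⊤)) :
    homOfGlobal M (∑ i ∈ s, (H10Coh.globA (A := k) (X := X) (c i)) • g i) =
      ∑ i ∈ s, homOfGlobal M (g i) ≫ scal M (H10Coh.globA (A := k) (X := X) (c i)) := by
  let Φ : Γ(M, ⊤) →+ (Coh.structureModule X ⟶ M) :=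
    AddMonoidHom.mk' (fun g => homOfGlobal M g) fun g g' => Scheme.Modules.hom_ext _ _ fun V => by
      ext r
      change (homOfGlobal M (g + g')).app V r = (homOfGlobal M g).app V r + (homOfGlobal M g').app V r
      simp only [homOfGlobal_app, map_add, smul_add]
  refine (map_sum Φ _ _).trans (Finset.sum_congr rfl fun i _ => Scheme.Modules.hom_ext _ _ fun V => ?_)
  ext r
  change (homOfGlobal M _).app V r = (scal M _).app V ((homOfGlobal M (g i)).app V r)
  rw [scal_app]
  simp only [homOfGlobal_app, Scheme.Modules.map_smul]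
  exact smul_comm _ _ _

theorem hhlin_comb {A : X.Modules} (hA : PicF.IsInvertible A) {L : X.Modules} (a b : Γ(L, ⊤)) {t : ℕ}
    (c : Fin (t + 1) → k) (p : ℕ) (x : Coh.HH X (CohB1.tensorMod (Coh.structureModule X) A) p) :
    Canon.HHlin k (LimSh.tensorModMap (homOfGlobal (CohB1.tensorPow L t) (comb' k a b c)) A) p x =
      ∑ i : Fin (t + 1), c i • Canon.HHlin k (LimSh.tensorModMap (homOfGlobal (CohB1.tensorPow L t) (mon a b t i)) A) p x := by
  show Canon.HHlin k ((H29RR.twist A).map (homOfGlobal (CohB1.tensorPow L t) (comb' k a b c))) p x = _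
  rw [comb', homOfGlobal_sum, Functor.map_sum, H29RR.hhlin_sum]
  refine Finset.sum_congr rfl fun i _ => ?_
  rw [Functor.map_comp, twist_scal hA, H29RR.hhlin_comp]
  exact hhlin_scal k _ _ _ _

variable {O : ℤ → X.Modules} {n : ℕ} {v : ℕ → Γ(O 1, ⊤)}

/-- Bounded first cohomology in negative twists forces vanishing in very negative ones. -/
theorem van_neg [IsIntegral X] (h : Emb O n v) (hN : Pi1.IsNormalScheme X) {d : ℕ}
    (hd : topologicalKrullDim X = ((d + 2 : ℕ) : WithBot ℕ∞)) {F : X.Modules} (hF : PicF.IsInvertible F) {P : ℕ}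
    (hP : ∀ j : ℤ, j ≤ -1 → hh k (CohB1.tensorMod F (O j)) 1 ≤ P)
    (h0 : hh k (CohB1.tensorMod F (O (-1))) 0 = 0) {j : ℤ} (hj : j ≤ -(2 * (P : ℤ) + 2)) :
    hh k (CohB1.tensorMod F (O j)) 1 = 0 := by
  classical
  haveI := H28Int.isNoetherian k (X := X)
  let L := O 1
  have hL : PicF.IsInvertible L := h.setup.fam.inv 1
  have hT : ∀ t, PicF.IsInvertible (CohB1.tensorPow L t) := fun t => isInvertible_tensorPow hL t
  let A := CohB1.tensorMod F (O j)
  have hA : PicF.IsInvertible A := H11Ample.isInvertible_tensor hF (h.setup.fam.inv j)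
  have hshift : ∀ (t : ℕ) (i : ℤ), i = j + t →
      Nonempty (CohB1.tensorMod (CohB1.tensorPow L t) A ≅ CohB1.tensorMod F (O i)) := fun t i hi => by
    obtain ⟨e⟩ := h.setup.fam.nonempty_tensorPow t
    obtain ⟨e'⟩ := h.setup.fam.add j t
    exact ⟨PicGrp.tensorModIso e (Iso.refl A) ≪≫ H10Coh.Tw.commIso _ _ ≪≫ H10Coh.Tw.assoc _ _ _ ≪≫
      PicGrp.tensorModIso (Iso.refl F) (e' ≪≫ eqToIso (congrArg O hi.symm))⟩
  by_contra hne
  haveI := H10Coh.finite_HH_proper k X _ (H11Ample.isCoh_of_isInvertible hA) 1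
  obtain ⟨x₀, hx₀⟩ : ∃ x : Coh.HH X A 1, x ≠ 0 := by
    rcases subsingleton_or_nontrivial (Coh.HH X A 1) with hs | hs
    · exact absurd Module.finrank_zero_of_subsingleton hne
    · exact exists_ne 0
  -- a form of degree `P` killing the class
  let η := genericPoint X
  have hη : ¬ IsClosed ({η} : Set X) := fun hcl => by
    have h1 : topologicalKrullDim (closure ({η} : Set X)) = ((d + 2 : ℕ) : WithBot ℕ∞) :=
      (VarDim.cdim_genericPoint X).trans hd
    rw [hcl.closure_eq] at h1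
    have h2 : topologicalKrullDim ({η} : Set X) ≤ 0 := topologicalKrullDim_zero_of_discreteTopology _
    rw [h1] at h2
    exact absurd h2 (by norm_cast)
  obtain ⟨a, b, f, hηa, hb, htr⟩ := exists_pair k h hη
  obtain ⟨eP⟩ := hshift P _ rfl
  let T := CohB1.tensorPow L P
  let G₂ := CohB1.tensorMod T A
  have hG₂ : hh k G₂ 1 ≤ P := by rw [hh_congr eP]; exact hP _ (by omega)
  let x₁ : Coh.HH X (CohB1.tensorMod (Coh.structureModule X) A) 1 :=
    Canon.HHlin k (H10Coh.Tw.leftUnitIso A).inv 1 x₀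
  have hx₁ : x₁ ≠ 0 := fun h1 => hx₀ (by
    rw [← H29RR.hhlin_id (k := k) A 1 x₀, ← (H10Coh.Tw.leftUnitIso A).inv_hom_id, H29RR.hhlin_comp]
    exact (congrArg _ h1).trans (map_zero _))
  let y : Fin (P + 1) → Coh.HH X G₂ 1 := fun i =>
    Canon.HHlin k (LimSh.tensorModMap (homOfGlobal T (mon a b P i)) A) 1 x₁
  haveI := H10Coh.finite_HH_proper k X _
    (H11Ample.isCoh_of_isInvertible (H11Ample.isInvertible_tensor (hT P) hA)) 1
  obtain ⟨c, hcy, i₀, hi₀⟩ := (Fintype.not_linearIndependent_iff (R := k) (v := y)).1 fun hli => by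
    have := hli.fintype_card_le_finrank
    rw [Fintype.card_fin] at this
    change P + 1 ≤ hh k G₂ 1 at this
    omega
  have hc : c ≠ 0 := fun h1 => hi₀ (congrFun h1 i₀)
  let g := comb' k a b c
  have hg : g ≠ 0 := fun h1 => by
    have h2 := mem_gen_comb k hηa hb htr hc
    rw [show comb' k a b c = 0 from h1] at h2
    have h3 := (mem_gen_iff (hT P) (0 : Γ(CohB1.tensorPow L P, ⊤)) η).1 h2
    rw [map_zero] at h3
    exact zero_ne_one (h3.1 (a₁ := (0 : X.presheaf.stalk η)) (a₂ := 1) (by simp))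
  haveI := (H29RR.mono_homOfGlobal (hT P) hg).1
  let φ := LimSh.tensorModMap (homOfGlobal T g) A
  have hkill : Canon.HHlin k φ 1 x₁ = 0 := (hhlin_comb k hA a b c 1 x₁).trans hcy
  haveI hφ : Mono φ := by
    obtain ⟨hm, -⟩ := H29RR.mono_homOfGlobal (hT P) hg
    have hS₀ : (ShortComplex.mk (homOfGlobal T g) (cokernel.π _) (cokernel.condition _)).ShortExact :=
      ShortComplex.ShortExact.mk' (ShortComplex.exact_cokernel _) hm inferInstance
    exact (H10Coh.Tw.shortExact_seq hS₀ hA).mono_f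
  have hS : (ShortComplex.mk φ (cokernel.π φ) (cokernel.condition φ)).ShortExact :=
    ShortComplex.ShortExact.mk' (ShortComplex.exact_cokernel φ) inferInstance inferInstance
  obtain ⟨y₀, hy₀⟩ := Abelian.Ext.covariant_sequence_exact₁ _ (H10Coh.shortExact_sh hS) x₁ hkill
    (rfl : 0 + 1 = 1)
  have hτ : H29RR.sec (cokernel φ) y₀ ≠ 0 := fun h1 => hx₁ (by
    rw [← hy₀, (H29RR.sec (cokernel φ)).injective (h1.trans (map_zero _).symm)]
    exact Abelian.Ext.zero_comp ..)
  have hO1 : PicF.IsInvertible (Coh.structureModule X) := fun y => ⟨⊤, trivial, ⟨Scheme.Modules.restrictUnitIso _⟩⟩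
  have hG₁i := H11Ample.isInvertible_tensor hO1 hA
  have hG₂i := H11Ample.isInvertible_tensor (hT P) hA
  obtain ⟨ξ, hξc, hξτ⟩ := exists_nonclosed_point hN
    (fun x hx => two_le_ringKrullDim_stalk k (X ↘ Spec (CommRingCat.of k)) hd hx) hG₁i hG₂i φ hτ
  obtain ⟨a', b', f', hξa, hb', htr'⟩ := exists_pair k h hξc
  -- too many sections on the divisor
  obtain ⟨t, ht⟩ : ∃ t : ℕ, j + (P : ℤ) + t = -1 := ⟨(-1 - j - P).toNat, by omega⟩
  let T' := CohB1.tensorPow L t
  let Q := CohB1.tensorMod (cokernel φ) T'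
  have hS' := H10Coh.Tw.shortExact_seq hS (hT t)
  have hQc : Coh.IsCoh Q := H11Ample.isCoh_tensor
    (H10Coh.isCoh_cokernel φ (H11Ample.isCoh_of_isInvertible hG₁i).1 (H11Ample.isCoh_of_isInvertible hG₂i)) (hT t)
  have hQ : hh k Q 0 ≤ P := by
    obtain ⟨e1⟩ := hshift t (j + t) rfl
    obtain ⟨e2⟩ := h.setup.fam.nonempty_tensorPow t
    obtain ⟨e3⟩ := h.setup.fam.add (j + P) t
    let E1 : CohB1.tensorMod (CohB1.tensorMod (Coh.structureModule X) A) T' ≅ CohB1.tensorMod F (O (j + t)) :=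
      PicGrp.tensorModIso (H10Coh.Tw.leftUnitIso A) (Iso.refl T') ≪≫ H10Coh.Tw.commIso _ _ ≪≫ e1
    let E2 : CohB1.tensorMod G₂ T' ≅ CohB1.tensorMod F (O (-1)) :=
      PicGrp.tensorModIso eP (Iso.refl T') ≪≫ H10Coh.Tw.assoc _ _ _ ≪≫
        PicGrp.tensorModIso (Iso.refl F) (PicGrp.tensorModIso (Iso.refl _) e2 ≪≫ e3 ≪≫ eqToIso (congrArg O ht))
    have h1 := hh_third_le (k := k) hS' (H11Ample.isCoh_of_isInvertible (H11Ample.isInvertible_tensor hG₁i (hT t)))
      (H11Ample.isCoh_of_isInvertible (H11Ample.isInvertible_tensor hG₂i (hT t))) hQc 0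
    change hh k Q 0 ≤ hh k (CohB1.tensorMod G₂ T') 0 +
      hh k (CohB1.tensorMod (CohB1.tensorMod (Coh.structureModule X) A) T') 1 at h1
    rw [hh_congr E2, hh_congr E1, h0] at h1
    exact h1.trans ((zero_add _).le.trans (hP _ (by omega)))
  haveI := H10Coh.finite_HH_proper k X _ hQc 0
  let τ := H29RR.sec (cokernel φ) y₀
  let w : Fin (t + 1) → Coh.HH X Q 0 := fun i => (H29RR.sec Q).symm (tm τ (mon a' b' t i))
  have hw : LinearIndependent k w := by
    rw [Fintype.linearIndependent_iff]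
    intro e he
    by_contra hne'
    have he0 : e ≠ 0 := fun h1 => hne' fun i => congrFun h1 i
    have h1 : tm τ (comb' k a' b' e) = 0 := by
      have h2 := congrArg (H29RR.sec Q) he
      rw [map_sum, map_zero] at h2
      rw [comb', ← h2]
      let R : Γ(T', ⊤) →+ Γ(Q, ⊤) := AddMonoidHom.mk' (fun g => tm τ g) fun g g' => tm_add_right τ g g'
      refine (map_sum R _ _).trans (Finset.sum_congr rfl fun i _ => ?_)
      rw [H29RR.sec_smul, AddEquiv.apply_symm_apply]
      exact tm_smul_right _ τ _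
    let g' := comb' k a' b' e
    have hV := mem_gen_comb k hξa hb' htr' he0
    refine hξτ (gen T' g') hV (H10Coh.Tw.tm_inj (isGen_gen g') ?_)
    rw [← tm_res, h1, map_zero, ← tm_zero_left]
  have := hw.fintype_card_le_finrank
  rw [Fintype.card_fin] at this
  change t + 1 ≤ hh k Q 0 at this
  omega

end Groth.Agent.H12Pic.Gen
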